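import Groth.Agent.H10Inj.SheafExt.RestrictHom
import Groth.Agent.H29Ref.DualStalk
import Groth.Agent.H16Derived.KFlat.LTensorAssoc
import Groth.Agent.H8Props.FinLocFree.Global
import Groth.Agent.H02CA.RDPostcomp
import Groth.Agent.H22Alg.KExists
import Groth.Agent.H02CA.ModLocalise
import Mathlib.LinearAlgebra.Contraction

/-!
# The sheaf Hom out of a finite locally free module
-/

set_option autoImplicit false
set_option backward.isDefEq.respectTransparency false
set_option linter.style.haveILetI false
set_option linter.unusedSectionVars false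

universe u

open CategoryTheory CategoryTheory.Limits AlgebraicGeometry TopologicalSpace Opposite TensorProduct

namespace Groth.Agent.H10Inj.SheafExt

open Groth.Agent.H06Mod Groth.Agent.H29Ref Groth.Agent.H10Coh.SheafHom Groth.Agent.H16Derived.KFlat.Stalk

variable {X : Scheme.{u}} (E M N : X.Modules)

/-- The symmetry of the tensor product. -/
noncomputable def tensorSwap : tensor M N ⟶ tensor N M :=
  desc (fun U m n => tensorSect U n m) (fun U m m' n => tensorSect_add_right n m m')
    (fun U r m n => tensorSect_smul_right r n m) (fun U m n n' => tensorSect_add_left n n' m)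
    (fun U r m n => tensorSect_smul_left r n m) (fun U V i m n => tensorSect_res i n m)

theorem tensorSwap_comp : tensorSwap M N ≫ tensorSwap N M = 𝟙 _ := by
  refine tensor_ext fun U m n => ?_
  refine (congrArg ((tensorSwap N M).app U) (desc_tensorSect _ _ _ _ _ _ U m n)).trans ?_
  exact desc_tensorSect _ _ _ _ _ _ U n m

/-- The symmetry of the tensor product, as an isomorphism. -/
noncomputable def tensorSwapIso : CohB1.tensorMod M N ≅ CohB1.tensorMod N M where
  hom := tensorSwap M N
  inv := tensorSwap N M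
  hom_inv_id := tensorSwap_comp M N
  inv_hom_id := tensorSwap_comp N M

/-- A functional times a section, as a section of the sheaf Hom. -/
noncomputable def dualPair (U : X.Opens) (φ : Γ(RefHull.dual E, U)) (m : Γ(M, U)) :
    Γ(RefHull.homSh E M, U) :=
  ⟨fun y => (LinearMap.toSpanSingleton (X.presheaf.stalk y.1) _ (M.presheaf.germ U y.1 y.2 m)).comp
      ((unitEquiv y.1).symm.toLinearMap.comp (φ.1 y)),
    fun V i w x => by
      obtain ⟨W, hx, j, n₀, hn⟩ := RefHull.isLocSect_of_mem φ V i w x
      refine ⟨W, hx, j, (show Γ(X, W) from n₀) • M.presheaf.map (j ≫ i).op m, fun y => ?_⟩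
      show (unitEquiv y.1).symm (φ.1 ⟨y.1, i.le (j.le y.2)⟩ (E.presheaf.germ V y.1 (j.le y.2) w)) •
          M.presheaf.germ U y.1 (i.le (j.le y.2)) m = _
      rw [hn y, Mero.germ_smul, M.presheaf.germ_res_apply (j ≫ i) y.1 y.2 m,
        germ_unit_eq_smul y.1 y.2 (show Γ(X, W) from n₀)]
      exact congrArg (· • _) ((unitEquiv y.1).symm_apply_apply _)⟩

theorem dualPair_apply (U : X.Opens) (φ : Γ(RefHull.dual E, U)) (m : Γ(M, U)) (y : U)
    (v : E.presheaf.stalk y.1) : (dualPair E M U φ m).1 y v =
      (unitEquiv y.1).symm (φ.1 y v) • M.presheaf.germ U y.1 y.2 m := rfl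

/-- The canonical map `E^∨ ⊗ M → 𝓗om(E, M)`. -/
noncomputable def dualHom : tensor (RefHull.dual E) M ⟶ RefHull.homSh E M :=
  desc (dualPair E M)
    (fun U φ φ' m => Subtype.ext (funext fun y => LinearMap.ext fun v => by
      show (unitEquiv y.1).symm (φ.1 y v + φ'.1 y v) • M.presheaf.germ U y.1 y.2 m =
        (unitEquiv y.1).symm (φ.1 y v) • M.presheaf.germ U y.1 y.2 m +
          (unitEquiv y.1).symm (φ'.1 y v) • M.presheaf.germ U y.1 y.2 m
      rw [map_add, add_smul]))
    (fun U r φ m => Subtype.ext (funext fun y => LinearMap.ext fun v => by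
      show (unitEquiv y.1).symm (X.presheaf.germ U y.1 y.2 r • φ.1 y v) • M.presheaf.germ U y.1 y.2 m =
        X.presheaf.germ U y.1 y.2 r • ((unitEquiv y.1).symm (φ.1 y v) • M.presheaf.germ U y.1 y.2 m)
      rw [map_smul, smul_assoc]))
    (fun U φ m m' => Subtype.ext (funext fun y => LinearMap.ext fun v => by
      show (unitEquiv y.1).symm (φ.1 y v) • M.presheaf.germ U y.1 y.2 (m + m') =
        (unitEquiv y.1).symm (φ.1 y v) • M.presheaf.germ U y.1 y.2 m +
          (unitEquiv y.1).symm (φ.1 y v) • M.presheaf.germ U y.1 y.2 m'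
      rw [map_add, smul_add]))
    (fun U r φ m => Subtype.ext (funext fun y => LinearMap.ext fun v => by
      show (unitEquiv y.1).symm (φ.1 y v) • M.presheaf.germ U y.1 y.2 (r • m) =
        X.presheaf.germ U y.1 y.2 r • ((unitEquiv y.1).symm (φ.1 y v) • M.presheaf.germ U y.1 y.2 m)
      rw [Mero.germ_smul, smul_comm]))
    (fun U V i φ m => Subtype.ext (funext fun y => LinearMap.ext fun v => by
      show (unitEquiv y.1).symm (φ.1 ⟨y.1, i.le y.2⟩ v) • M.presheaf.germ V y.1 y.2 (M.presheaf.map i.op m) =
        (unitEquiv y.1).symm (φ.1 ⟨y.1, i.le y.2⟩ v) • M.presheaf.germ U y.1 (i.le y.2) m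
      rw [M.presheaf.germ_res_apply i y.1 y.2 m]))

variable {E} (hE : FlatMod.IsFinLocFree E)

include hE in
theorem bijective_stalkMap_dualHom (x : X) : Function.Bijective (RefHull.stalkMapₗ (dualHom E M) x) := by
  have hFP := H8Props.FinLocFree.isFP_of_isFinLocFree E hE
  obtain ⟨n, ⟨b⟩⟩ := H22Alg.KExists.stalk_free hE x
  haveI : Module.Free (X.presheaf.stalk x) (E.presheaf.stalk x) := Module.Free.of_basis b
  haveI : Module.Finite (X.presheaf.stalk x) (E.presheaf.stalk x) := Module.Finite.of_basis b
  let eh := LinearEquiv.ofBijective (RefHull.evalStalk E M x) (evalStalk_bijective E M hFP x)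
  let ed := TensorProduct.congr (dualEquiv E hFP x) (LinearEquiv.refl (X.presheaf.stalk x) (M.presheaf.stalk x))
  have key : ∀ t, eh (RefHull.stalkMapₗ (dualHom E M) x (stalkEquiv (RefHull.dual E) M x t)) =
      dualTensorHom (X.presheaf.stalk x) (E.presheaf.stalk x) (M.presheaf.stalk x) (ed t) := by
    intro t
    induction t using TensorProduct.induction_on with
    | zero => simp only [map_zero]
    | add a b ha hb => simp only [map_add, ha, hb]
    | tmul a b =>
      obtain ⟨⟨U, φ, m⟩, hU, rfl, rfl⟩ := exists_germ₂ (RefHull.dual E) M x a b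
      refine LinearMap.ext fun v => ?_
      show RefHull.evalStalk E M x (RefHull.stalkMapₗ (dualHom E M) x (toStalk _ _ x (_ ⊗ₜ _))) v =
        dualEquiv E hFP x ((RefHull.dual E).presheaf.germ U x hU φ) v • M.presheaf.germ U x hU m
      rw [toStalk_tmul, pair_germ, RefHull.stalkMapₗ_germ, dualHom, desc_tensorSect, dualEquiv_apply]
      refine (LinearMap.congr_fun (RefHull.evalStalk_germ (F := E) (G := M) x hU _) v).trans ?_
      refine (dualPair_apply E M U φ m ⟨x, hU⟩ v).trans ?_
      exact congrArg (fun z => (unitEquiv x).symm z • M.presheaf.germ U x hU m)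
        (LinearMap.congr_fun (RefHull.evalStalk_germ (F := E) (G := Coh.structureModule X) x hU φ) v).symm
  have hb : Function.Bijective (eh ∘ RefHull.stalkMapₗ (dualHom E M) x ∘ stalkEquiv (RefHull.dual E) M x) := by
    rw [show (eh ∘ RefHull.stalkMapₗ (dualHom E M) x ∘ stalkEquiv (RefHull.dual E) M x : _ → _) =
      dualTensorHom (X.presheaf.stalk x) (E.presheaf.stalk x) (M.presheaf.stalk x) ∘ ed from funext key]
    exact dualTensorHom_bijective.comp ed.bijective
  rwa [EquivLike.comp_bijective, EquivLike.bijective_comp] at hb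

include hE in
theorem isIso_dualHom : IsIso (dualHom E M) :=
  (isIso_iff_bijective_stalk _).2 (bijective_stalkMap_dualHom M hE)

theorem dualHom_natural {M' : X.Modules} (g : M ⟶ M') :
    ((DCoh.tensorBi (X := X)).obj (RefHull.dual E)).map g ≫ dualHom E M' = dualHom E M ≫ (homFunctor E).map g := by
  refine tensor_ext fun U φ m => ?_
  refine ((congrArg ((dualHom E M').app U) (map_tensorSect g U φ m)).trans
    (desc_tensorSect _ _ _ _ _ _ U φ (g.app U m))).trans ?_
  refine Eq.trans ?_ (congrArg (((homFunctor E).map g).app U) (desc_tensorSect _ _ _ _ _ _ U φ m)).symm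
  refine Subtype.ext (funext fun y => LinearMap.ext fun v => ?_)
  refine Eq.trans ?_ (homFunctor_map_apply E g U (dualPair E M U φ m) y v).symm
  rw [dualPair_apply, dualPair_apply, map_smul]
  exact congrArg _ (stalkLin_germ g y.1 U y.2 m).symm

variable (E)

/-- `E^∨ ⊗ - ≅ 𝓗om(E, -)`. -/
noncomputable def dualHomIso : (DCoh.tensorBi (X := X)).obj (RefHull.dual E) ≅ homFunctor E :=
  NatIso.ofComponents (fun M => @asIso _ _ _ _ (dualHom E M) (isIso_dualHom M hE)) fun g => dualHom_natural _ g

include hE in
theorem preservesFiniteColimits_homFunctor : PreservesFiniteColimits (homFunctor E) := by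
  haveI : PreservesColimitsOfSize.{0, 0} ((DCoh.tensorBi (X := X)).obj (RefHull.dual E)) :=
    (homAdj (RefHull.dual E)).leftAdjoint_preservesColimits
  exact preservesFiniteColimits_of_natIso (dualHomIso E hE)

/-- `𝓗om(F ⊗ E, -) = 𝓗om(E, 𝓗om(F, -))`. -/
noncomputable def homTensorIso (F : X.Modules) :
    homFunctor (CohB1.tensorMod F E) ≅ homFunctor F ⋙ homFunctor E :=
  let a : (DCoh.tensorBi (X := X)).obj (CohB1.tensorMod F E) ≅
      (DCoh.tensorBi (X := X)).obj E ⋙ (DCoh.tensorBi (X := X)).obj F :=
    NatIso.ofComponents (fun N => (((H16Derived.KFlat.Stalk.sheafAssoc (X := X)).app F).app E).app N)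
      (fun g => (((H16Derived.KFlat.Stalk.sheafAssoc (X := X)).app F).app E).hom.naturality g)
  (homAdj (CohB1.tensorMod F E)).rightAdjointUniq (((homAdj E).comp (homAdj F)).ofNatIsoLeft a.symm)

include hE in
/-- Ext sheaves out of a tensor product with a finite locally free module. -/
theorem nonempty_rightDerived_tensor [HasInjectiveResolutions X.Modules] (F G : X.Modules) (i : ℕ) :
    Nonempty (((homFunctor (CohB1.tensorMod F E)).rightDerived i).obj G ≅
      CohB1.tensorMod (((homFunctor F).rightDerived i).obj G) ((homFunctor E).obj (Coh.structureModule X))) := by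
  haveI := preservesFiniteColimits_homFunctor E hE
  exact ⟨(H02CA.ModLocalise.rdMapIso (homTensorIso E F) i).app G ≪≫
    (H02CA.RDPostcomp.postcompIso (homFunctor F) (homFunctor E) i).app G ≪≫
    ((dualHomIso E hE).app _).symm ≪≫ tensorSwapIso _ _⟩

/-- Tensor products of isomorphisms. -/
noncomputable def tensorModIso {A B C D : X.Modules} (e : A ≅ C) (f : B ≅ D) :
    CohB1.tensorMod A B ≅ CohB1.tensorMod C D :=
  ((DCoh.tensorBi (X := X)).mapIso e).app B ≪≫ ((DCoh.tensorBi (X := X)).obj C).mapIso f

/-- The sheaf Hom does not see the order of tensor factors. -/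
noncomputable def homSwapIso (A B : X.Modules) :
    homFunctor (CohB1.tensorMod A B) ≅ homFunctor (CohB1.tensorMod B A) :=
  (homAdj _).rightAdjointUniq
    ((homAdj _).ofNatIsoLeft ((DCoh.tensorBi (X := X)).mapIso (tensorSwapIso A B).symm))

end Groth.Agent.H10Inj.SheafExt
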