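import Groth.Agent.H10Inj.SheafExt.Compare
import Mathlib.Algebra.Category.ModuleCat.ChangeOfRings

/-!
# The comparison of derived functors with Ext, after a change of rings along an isomorphism
-/

set_option autoImplicit false
set_option backward.isDefEq.respectTransparency false
set_option linter.style.haveILetI false

universe v u w

open CategoryTheory CategoryTheory.Limits Abelian

namespace Groth.Agent.H10Inj.SheafExt

variable {A : Type w} [Category.{v} A] [Abelian A] [EnoughInjectives A]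
  {B : Type w} [Category.{v} B] [Abelian B]
  (H : A ⥤ B) [H.Additive] [PreservesFiniteLimits H]
  {R R' : Type u} [CommRing R] [CommRing R'] (σ : R ≃+* R')
  (Φ : B ⥤ ModuleCat.{u} R') (Ψ : A ⥤ ModuleCat.{u} R') [Ψ.PreservesZeroMorphisms] (M : ModuleCat.{u} R')

/-- Linear maps after a change of rings along an isomorphism. -/
noncomputable def restrictHomEquiv (M N : ModuleCat.{u} R') :
    (ModuleCat.restrictScalars σ.toRingHom).obj (ModuleCat.of R' (M ⟶ N)) ≃ₗ[R]
      ((ModuleCat.restrictScalars σ.toRingHom).obj M ⟶ (ModuleCat.restrictScalars σ.toRingHom).obj N) where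
  toFun f := (ModuleCat.restrictScalars σ.toRingHom).map f
  invFun g := (ModuleCat.restrictScalars σ.toRingHom).preimage g
  left_inv f := (ModuleCat.restrictScalars σ.toRingHom).preimage_map f
  right_inv g := (ModuleCat.restrictScalars σ.toRingHom).map_preimage g
  map_add' f g := by ext; rfl
  map_smul' r f := by ext; rfl

/-- The comparison over an isomorphic ring. -/
theorem nonempty_rightDerived_ext' (P : A → Prop) (hPiso : ∀ {N N' : A}, (N ≅ N') → P N → P N')
    (hres : ∀ N, P N → ∃ S : ShortComplex A, S.ShortExact ∧ Nonempty (S.X₁ ≅ N) ∧ Injective S.X₂ ∧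
      P S.X₂ ∧ P S.X₃ ∧ (S.map Ψ).ShortExact ∧ Injective (Ψ.obj S.X₂) ∧
      Nonempty (Φ.obj (cokernel (H.map S.g)) ≅ cokernel (Φ.map (H.map S.g))))
    (ε : ∀ N, P N → (Φ.obj (H.obj N) ≃ₗ[R'] (M ⟶ Ψ.obj N)))
    (hε : ∀ (N N' : A) (hN : P N) (hN' : P N') (g : N ⟶ N') (x : Φ.obj (H.obj N)),
      ε N' hN' ((Φ.map (H.map g)).hom x) = ε N hN x ≫ Ψ.map g) (i : ℕ) (N : A) (hN : P N) :
    Nonempty ((ModuleCat.restrictScalars σ.toRingHom).obj (Φ.obj ((H.rightDerived i).obj N)) ≃ₗ[R]
      Ext ((ModuleCat.restrictScalars σ.toRingHom).obj M)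
        ((ModuleCat.restrictScalars σ.toRingHom).obj (Ψ.obj N)) i) := by
  let G : ModuleCat.{u} R' ⥤ ModuleCat.{u} R := ModuleCat.restrictScalars σ.toRingHom
  haveI : G.Additive := { map_add := by intros; rfl }
  haveI : G.IsEquivalence := ModuleCat.restrictScalars_isEquivalence_of_ringEquiv σ
  refine nonempty_rightDerived_ext H (Φ ⋙ G) (Ψ ⋙ G) (G.obj M) P hPiso (fun N hN => ?_)
    (fun N hN => ((G.mapIso (ε N hN).toModuleIso).toLinearEquiv).trans (restrictHomEquiv σ M (Ψ.obj N)))
    (fun N N' hN hN' g x => ?_) i N hN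
  · obtain ⟨S, hS, he, hI, h2, h3, hΨ, hΨI, ⟨e⟩⟩ := hres N hN
    haveI := hΨI
    exact ⟨S, hS, he, hI, h2, h3, hΨ.map_of_exact G,
      (G.asEquivalence.map_injective_iff _).2 hΨI,
      ⟨G.mapIso e ≪≫ PreservesCokernel.iso G _⟩⟩
  · show G.map (ε N' hN' ((Φ.map (H.map g)).hom x)) = G.map (ε N hN x) ≫ G.map (Ψ.map g)
    rw [hε N N' hN hN' g x, G.map_comp]

end Groth.Agent.H10Inj.SheafExt
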