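import Groth.Agent.H10Inj.SheafExt.Sections
import Groth.Agent.H10Inj.SheafExt.Transport

/-!
# Ext sheaves on affine schemes
-/

set_option autoImplicit false
set_option backward.isDefEq.respectTransparency false
set_option linter.style.haveILetI false

universe u

open CategoryTheory CategoryTheory.Limits AlgebraicGeometry TopologicalSpace Opposite Abelian

namespace Groth.Agent.H10Inj.SheafExt

section Congr

variable {R : Type u} [CommRing R] {M M' N N' : ModuleCat.{u} R}

/-- Ext of isomorphic modules. -/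
noncomputable def extCongr (a : M' ≅ M) (b : N ≅ N') (i : ℕ) : Ext M N i ≃ₗ[R] Ext M' N' i :=
  { (Ext.postcompOfLinear (Ext.mk₀ b.hom) R M' (a := i) (b := i) rfl).comp
      (Ext.precompOfLinear (Ext.mk₀ a.hom) R N (a := i) (b := i) (zero_add i)) with
    invFun := fun x => (Ext.mk₀ a.inv).comp (x.comp (Ext.mk₀ b.inv) rfl) (zero_add i)
    left_inv := fun x => by
      show (Ext.mk₀ a.inv).comp ((((Ext.mk₀ a.hom).comp x (zero_add i)).comp (Ext.mk₀ b.hom) rfl).comp
        (Ext.mk₀ b.inv) rfl) (zero_add i) = x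
      simp
    right_inv := fun x => by
      show ((Ext.mk₀ a.hom).comp ((Ext.mk₀ a.inv).comp (x.comp (Ext.mk₀ b.inv) rfl) (zero_add i))
        (zero_add i)).comp (Ext.mk₀ b.hom) rfl = x
      simp }

end Congr

variable {R : CommRingCat.{u}}

/-- `R = Γ(Spec R, ⊤)`. -/
noncomputable def gammaRingEquiv (R : CommRingCat.{u}) : R ≃+* Γ(Spec R, ⊤) :=
  (Scheme.ΓSpecIso R).symm.commRingCatIsoToRingEquiv

/-- Global sections as modules over the ring. -/
noncomputable def zeta (N : (Spec R).Modules) :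
    (moduleSpecΓFunctor (R := R)).obj N ≃ₗ[R]
      (ModuleCat.restrictScalars (gammaRingEquiv R).toRingHom).obj ((gamma (X := Spec R) ⊤).obj N) where
  toFun x := x
  invFun x := x
  left_inv _ := rfl
  right_inv _ := rfl
  map_add' _ _ := rfl
  map_smul' r (x : Γ(N, ⊤)) := by
    refine (Scheme.Modules.smul_Spec_def (M := N) (U := ⊤) r x).trans ?_
    rw [Subsingleton.elim (⊤ : (Spec R).Opens).leTop.op (𝟙 _), CategoryTheory.Functor.map_id]
    rfl

attribute [local instance 10000] H10Coh.hasSheafifyAb H10Coh.hasWeakSheafifyAb H10Coh.hasExtAb H10Coh.enoughInjAb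

/-- Ext sheaves of tilde modules are the tilde of Ext. -/
theorem nonempty_rightDerived_tilde [IsNoetherianRing R] [HasInjectiveResolutions (Spec R).Modules]
    (M N : ModuleCat.{u} R) [Module.Finite R M] (i : ℕ) :
    Nonempty (((homFunctor (tilde M)).rightDerived i).obj (tilde N) ≅ tilde (ModuleCat.of R (Ext M N i))) := by
  let F := tilde M
  let σ := gammaRingEquiv R
  let Γ' := gamma (X := Spec R) ⊤
  have hF : Coh.IsCoh F := H10Coh.isCoh_tilde M
  have hFP := H10Coh.isFP_of_isCoh F hF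
  have hU : IsAffineOpen (⊤ : (Spec R).Opens) := isAffineOpen_top _
  let E := ((homFunctor F).rightDerived i).obj (tilde N)
  haveI : E.IsQuasicoherent := isQCoh_rightDerived F hF i (tilde N) (inferInstanceAs (tilde N).IsQuasicoherent)
  have h := nonempty_rightDerived_ext' (homFunctor F) σ Γ' Γ' (Γ'.obj F) (fun N => Coh.IsQCoh N)
    (fun e h => @H10Coh.isQuasicoherent_of_iso _ _ _ e h) (fun N hN => ?_)
    (fun N _ => homSectionsEquiv F hF.1 hU N) (fun _ _ _ _ g x => homSectionsEquiv_natural F hF.1 hU g x) i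
    (tilde N) (inferInstanceAs (tilde N).IsQuasicoherent)
  · obtain ⟨e⟩ := h
    let a : (ModuleCat.restrictScalars σ.toRingHom).obj (Γ'.obj F) ≅ M :=
      (zeta F).toModuleIso.symm ≪≫ ((tilde.toTildeΓNatIso (R := R)).app M).symm
    let b : (ModuleCat.restrictScalars σ.toRingHom).obj (Γ'.obj (tilde N)) ≅ N :=
      (zeta (tilde N)).toModuleIso.symm ≪≫ ((tilde.toTildeΓNatIso (R := R)).app N).symm
    let c : (moduleSpecΓFunctor (R := R)).obj E ≅ ModuleCat.of R (Ext M N i) :=
      (((zeta E).trans e).trans (extCongr a.symm b i)).toModuleIso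
    exact ⟨(asIso E.fromTildeΓ).symm ≪≫ (tilde.functor R).mapIso c⟩
  obtain ⟨S, hS, he, hI, h2, h3⟩ := exists_shortExact N hN
  haveI : ((homFunctor F).obj S.X₂).IsQuasicoherent := H29Ref.isQCoh_homSh F _ hFP h2
  haveI : ((homFunctor F).obj S.X₃).IsQuasicoherent := H29Ref.isQCoh_homSh F _ hFP h3
  haveI : S.X₂.IsQuasicoherent := h2
  haveI : S.X₃.IsQuasicoherent := h3
  haveI := hI
  haveI : IsNoetherianRing Γ(Spec R, ⊤) := IsLocallyNoetherian.component_noetherian ⟨⊤, hU⟩
  haveI : Module.Injective Γ(Spec R, ⊤) Γ(S.X₂, ⊤) := injective_sections S.X₂ hU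
  exact ⟨S, hS, he, hI, h2, h3, exact_gamma hS hU,
    Module.injective_object_of_injective_module Γ(Spec R, ⊤) Γ(S.X₂, ⊤),
    nonempty_gamma_cokernel _ hU⟩

end Groth.Agent.H10Inj.SheafExt
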