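import Groth.Agent.H02CA.RestrScal.Precomp
import Groth.Agent.H15Site.RDExt
import Mathlib.CategoryTheory.Preadditive.Yoneda.Limits
import Mathlib.CategoryTheory.Preadditive.Injective.Basic
import Mathlib.CategoryTheory.Adjunction.Additive

/-!
# Ext groups along an adjunction of exact functors
-/

set_option autoImplicit false
set_option linter.style.haveILetI false
set_option backward.isDefEq.respectTransparency false

universe v u u'

open CategoryTheory CategoryTheory.Limits CategoryTheory.Abelian Opposite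

namespace Groth.Agent.H10Inj.SheafExt

variable {A : Type u} [Category.{v} A] [Abelian A] [HasExt.{v} A] [EnoughInjectives A]
  {B : Type u'} [Category.{v} B] [Abelian B] [HasExt.{v} B] [EnoughInjectives B]
  {L : B ⥤ A} {R : A ⥤ B}

/-- `Ext^n(L F, G) = Ext^n(F, R G)` for exact `L ⊣ R`. -/
theorem nonempty_ext_adj (adj : L ⊣ R) [R.Additive] [PreservesFiniteColimits R]
    [L.PreservesMonomorphisms] (F : B) (G : A) (n : ℕ) :
    Nonempty (Ext.{v} (L.obj F) G n ≃+ Ext.{v} F (R.obj G) n) := by
  haveI : R.IsRightAdjoint := adj.isRightAdjoint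
  haveI : L.Additive := adj.left_adjoint_additive
  let T : B ⥤ AddCommGrpCat.{v} := preadditiveCoyoneda.obj (op F)
  have hR : ∀ (I : A) [Injective I], H16Derived.AcyclicLES.IsAcyclic T (R.obj I) := fun I _ =>
    haveI : Injective (R.obj I) := Injective.injective_of_adjoint adj I
    H16Derived.AcyclicLES.isAcyclic_of_injective T _
  obtain ⟨e₁⟩ := H02CA.RestrScal.nonempty_precompIso R T hR n
  obtain ⟨e₂⟩ := H15Site.RDExt.nonempty_iso F T (fun _ => AddEquiv.refl _) (fun _ _ _ _ => rfl) n
  obtain ⟨e₃⟩ := H15Site.RDExt.nonempty_iso (L.obj F) (R ⋙ T)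
    (fun Y => (adj.homAddEquiv F Y).symm)
    (fun Y Y' f s => adj.homEquiv_naturality_right_symm s f) n
  exact ⟨((e₃.app G).symm ≪≫ e₁.app G ≪≫ e₂.app (R.obj G)).addCommGroupIsoToAddEquiv⟩

end Groth.Agent.H10Inj.SheafExt
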