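import Groth.Agent.H10Inj.ExtVanish
import Groth.Agent.H02CA.ModLocalise
import Groth.Agent.H15Site.ModFlat
import Groth.Prelude.Def_ModSite2

/-!
# The sheaf Hom functor through families of stalk maps
-/

set_option autoImplicit false
set_option backward.isDefEq.respectTransparency false
set_option linter.style.haveILetI false

universe u

open CategoryTheory CategoryTheory.Limits AlgebraicGeometry TopologicalSpace Opposite

namespace Groth.Agent.H10Inj.SheafExt

open Groth.Agent.H06Mod Groth.Agent.H29Ref

variable {X : Scheme.{u}} (F : X.Modules)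

theorem homEquiv_natural (N' N G : X.Modules) (g : N' ⟶ N)
    (φ : ((DCoh.tensorBi (X := X)).obj F).obj N ⟶ G) :
    H10Coh.SheafHom.homEquiv F N' G (((DCoh.tensorBi (X := X)).obj F).map g ≫ φ) =
      g ≫ H10Coh.SheafHom.homEquiv F N G φ :=
  H10Coh.SheafHom.curry_natural g φ

/-- The sheaf Hom functor `N ↦ 𝓗om(F, N)`. -/
noncomputable def homFunctor : X.Modules ⥤ X.Modules :=
  Adjunction.rightAdjointOfEquiv (F := (DCoh.tensorBi (X := X)).obj F) (G_obj := fun G => RefHull.homSh F G)
    (fun N G => H10Coh.SheafHom.homEquiv F N G) (homEquiv_natural F)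

/-- `F ⊗ -` is left adjoint to `𝓗om(F, -)`. -/
noncomputable def homAdj : (DCoh.tensorBi (X := X)).obj F ⊣ homFunctor F :=
  Adjunction.adjunctionOfEquivRight (G_obj := fun G => RefHull.homSh F G)
    (fun N G => H10Coh.SheafHom.homEquiv F N G) (homEquiv_natural F)

theorem homFunctor_map {N N' : X.Modules} (g : N ⟶ N') : (homFunctor F).map g = postMap F g := rfl

theorem homFunctor_obj (N : X.Modules) : (homFunctor F).obj N = RefHull.homSh F N := rfl

instance : (homFunctor F).IsRightAdjoint := ⟨_, ⟨homAdj F⟩⟩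

instance : PreservesFiniteLimits (homFunctor F) := inferInstance

instance : (homFunctor F).Additive := by
  haveI : PreservesBinaryBiproducts (homFunctor F) :=
    preservesBinaryBiproducts_of_preservesBinaryProducts _
  exact Functor.additive_of_preservesBinaryBiproducts _

/-- The chosen internal Hom on the site is `𝓗om(F, -)`. -/
noncomputable def modSiteHomIso [ModSite.HasSheafHom (O := X.sheaf) F] :
    ModSite.sheafHom (O := X.sheaf) F ≅ homFunctor F :=
  ((ModSite.sheafHomAdj (O := X.sheaf) F).ofNatIsoLeft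
    (H15Site.ModTensor.tLIso (O := X.sheaf) F).symm).rightAdjointUniq (homAdj F)

/-- The Ext sheaves are the derived functors of `𝓗om(F, -)`. -/
noncomputable def extShIso [ModSite.HasSheafHom (O := X.sheaf) F] [HasInjectiveResolutions (ModSite.Mod X.sheaf)]
    (i : ℕ) (G : X.Modules) :
    (ModSite.extSh (O := X.sheaf) F i).obj G ≅
      (haveI : HasInjectiveResolutions X.Modules := ‹HasInjectiveResolutions (ModSite.Mod X.sheaf)›
      ((homFunctor F).rightDerived i).obj G) :=
  haveI : Functor.Additive (C := ModSite.Mod X.sheaf) (D := ModSite.Mod X.sheaf) (homFunctor F) :=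
    (inferInstance : (homFunctor F).Additive)
  haveI : (ModSite.sheafHom (O := X.sheaf) F).Additive := Functor.additive_of_iso (modSiteHomIso F).symm
  (H02CA.ModLocalise.rdMapIso (A := ModSite.Mod X.sheaf) (modSiteHomIso F) i).app G

theorem homFunctor_map_apply {N N' : X.Modules} (g : N ⟶ N') (V : X.Opens) (f : Γ(RefHull.homSh F N, V))
    (y : V) (m : F.presheaf.stalk y.1) :
    (((homFunctor F).map g).app V f).1 y m = stalkLin g y.1 (f.1 y m) := by
  obtain ⟨W, hW, m, rfl⟩ := F.presheaf.exists_germ_eq m
  rw [← TopCat.Presheaf.germ_res_apply F.presheaf (homOfLE (inf_le_left : W ⊓ V ≤ W)) y.1 ⟨hW, y.2⟩ m]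
  have h2 := postMap_apply F g (W ⊓ V) ((RefHull.homSh F N).presheaf.map (homOfLE inf_le_right).op f)
    ⟨y.1, ⟨hW, y.2⟩⟩ (F.presheaf.map (homOfLE (inf_le_left : W ⊓ V ≤ W)).op m)
  rw [H11Tilde.app_map_apply (postMap F g) inf_le_right f, res_apply, res_apply] at h2
  exact h2

end Groth.Agent.H10Inj.SheafExt
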