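import Groth.Agent.H10Inj.SheafExt.DualTensor
import Groth.Agent.H10Coh.SheafHom.Flat
import Groth.Agent.H10Coh.ProjFormulaFLF
import Groth.Agent.H16Derived.ProjFormula.Free
import Groth.Agent.H16Derived.KFlat.FlatIff
import Groth.Agent.H02CA.RestrScal.Precomp
import Groth.Agent.H8Props.RelPCBaseChange

/-!
# Relative Ext sheaves and finite locally free modules
-/

set_option autoImplicit false
set_option backward.isDefEq.respectTransparency false
set_option linter.style.haveILetI false

universe u

open CategoryTheory CategoryTheory.Limits AlgebraicGeometry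

namespace Groth.Agent.H10Inj.SheafExt

open Groth.Agent.H06Mod Groth.Agent.H29Ref Groth.Agent.H16Derived.KFlat
  Groth.Agent.H16Derived.KFlat.Stalk

variable {X Y : Scheme.{u}} (f : X ⟶ Y)

/-- The sheaf Hom is functorial in isomorphisms. -/
noncomputable def homCongrIso {A B : X.Modules} (e : A ≅ B) : homFunctor A ≅ homFunctor B :=
  (homAdj A).rightAdjointUniq ((homAdj B).ofNatIsoLeft ((DCoh.tensorBi (X := X)).mapIso e.symm))

/-- The sheaf Homs commute. -/
noncomputable def homCommIso (A B : X.Modules) :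
    homFunctor A ⋙ homFunctor B ≅ homFunctor B ⋙ homFunctor A :=
  (homTensorIso B A).symm ≪≫ homSwapIso A B ≪≫ homTensorIso A B

theorem isFinLocFree_dual {E : X.Modules} (hE : FlatMod.IsFinLocFree E) :
    FlatMod.IsFinLocFree (RefHull.dual E) :=
  H10Coh.SheafHom.isFinLocFree_homSh hE (H8Props.RelPC.isFinLocFree_structure X)

theorem isIso_bidualMap {E : X.Modules} (hE : FlatMod.IsFinLocFree E) : IsIso (RefHull.bidualMap E) := by
  refine (isIso_iff_bijective_stalk _).2 fun x => ?_
  have hFP := H8Props.FinLocFree.isFP_of_isFinLocFree E hE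
  have hFP' := H8Props.FinLocFree.isFP_of_isFinLocFree _ (isFinLocFree_dual hE)
  obtain ⟨n, ⟨b⟩⟩ := H22Alg.KExists.stalk_free hE x
  haveI : Module.Free (X.presheaf.stalk x) (E.presheaf.stalk x) := Module.Free.of_basis b
  haveI : Module.Finite (X.presheaf.stalk x) (E.presheaf.stalk x) := Module.Finite.of_basis b
  exact (isReflexiveAt_iff E hFP hFP' x).1 (show Module.IsReflexive _ _ from inferInstance)

/-- `- ⊗ E = 𝓗om(E^∨, -)`. -/
noncomputable def tensorHomIso (E : X.Modules) (hE : FlatMod.IsFinLocFree E) :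
    (DCoh.tensorBi (X := X)).flip.obj E ≅ homFunctor (RefHull.dual E) :=
  haveI := isIso_bidualMap hE
  (H15Site.ModTensor.tLIso (O := X.sheaf) E).symm ≪≫
    (DCoh.tensorBi (X := X)).mapIso (asIso (RefHull.bidualMap E)) ≪≫
      dualHomIso (RefHull.dual E) (isFinLocFree_dual hE)

theorem preservesMonomorphisms_tensor {E : X.Modules} (hE : FlatMod.IsFinLocFree E) :
    ((DCoh.tensorBi (X := X)).obj E).PreservesMonomorphisms := by
  refine ⟨fun {A B} g _ => ?_⟩
  have h : (ShortComplex.mk g (cokernel.π g) (cokernel.condition g)).ShortExact :=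
    { exact := ShortComplex.exact_of_g_is_cokernel _ (cokernelIsCokernel g) }
  have e : (DCoh.tensorBi (X := X)).flip.obj E ≅ (DCoh.tensorBi (X := X)).obj E :=
    (H15Site.ModTensor.tLIso (O := X.sheaf) E).symm
  haveI : Mono (((DCoh.tensorBi (X := X)).flip.obj E).map g) :=
    ((isFlat_iff_isFlatObj E).1 (isFlat_of_isFinLocFree hE) _ h).mono_f
  exact (MorphismProperty.monomorphisms X.Modules).arrow_mk_iso_iff
    ((Functor.mapArrowFunctor _ _).mapIso e |>.app (Arrow.mk g)) |>.1 this

theorem injective_homFunctor {E : X.Modules} (hE : FlatMod.IsFinLocFree E) (I : X.Modules)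
    [Injective I] : Injective ((homFunctor E).obj I) := by
  haveI := preservesMonomorphisms_tensor hE
  exact Injective.injective_of_adjoint (homAdj E) I

theorem nonempty_rightDerived_homPrecomp {D : Type*} [Category D] [Abelian D] [EnoughInjectives X.Modules]
    (H : X.Modules ⥤ D) [H.Additive] [PreservesFiniteLimits H] {E : X.Modules}
    (hE : FlatMod.IsFinLocFree E) (p : ℕ) :
    Nonempty ((homFunctor E ⋙ H).rightDerived p ≅ homFunctor E ⋙ H.rightDerived p) := by
  haveI := preservesFiniteColimits_homFunctor E hE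
  exact H02CA.RestrScal.nonempty_precompIso (homFunctor E) H (fun I _ =>
    haveI := injective_homFunctor hE I
    H16Derived.AcyclicLES.isAcyclic_of_injective H _) p

/-- `𝓗om(A, -)` commutes with twisting by finite locally free modules. -/
noncomputable def tensorHomCommIso (A E : X.Modules) (hE : FlatMod.IsFinLocFree E) :
    (DCoh.tensorBi (X := X)).flip.obj E ⋙ homFunctor A ≅
      homFunctor A ⋙ (DCoh.tensorBi (X := X)).flip.obj E :=
  Functor.isoWhiskerRight (tensorHomIso E hE) (homFunctor A) ≪≫ homCommIso _ A ≪≫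
    Functor.isoWhiskerLeft (homFunctor A) (tensorHomIso E hE).symm

/-- `f_*(- ⊗ f^*N) = f_* - ⊗ N`. -/
noncomputable def pushTensorIso (N : Y.Modules) (hN : FlatMod.IsFinLocFree N) :
    (DCoh.tensorBi (X := X)).flip.obj ((Scheme.Modules.pullback f).obj N) ⋙ Scheme.Modules.pushforward f ≅
      Scheme.Modules.pushforward f ⋙ (DCoh.tensorBi (X := Y)).flip.obj N :=
  (NatIso.ofComponents (fun M =>
      @asIso _ _ _ _ (H16Derived.ProjFormula.ψ f M N) (H10Coh.PF.isIso_ψ_of_isFinLocFree f hN M))
    fun g => H16Derived.ProjFormula.ψ_naturality_left f g N).symm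

/-- `f_* 𝓗om(F, - ⊗ f^*N) = f_* 𝓗om(F, -) ⊗ N`. -/
noncomputable def relTensorIso (F : X.Modules) (N : Y.Modules) (hN : FlatMod.IsFinLocFree N) :
    (DCoh.tensorBi (X := X)).flip.obj ((Scheme.Modules.pullback f).obj N) ⋙
        (homFunctor F ⋙ Scheme.Modules.pushforward f) ≅
      (homFunctor F ⋙ Scheme.Modules.pushforward f) ⋙ (DCoh.tensorBi (X := Y)).flip.obj N :=
  (Functor.associator _ _ _).symm ≪≫
    Functor.isoWhiskerRight (tensorHomCommIso F _ (isFinLocFree_pullback f hN)) _ ≪≫
    Functor.associator _ _ _ ≪≫ Functor.isoWhiskerLeft _ (pushTensorIso f N hN) ≪≫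
    (Functor.associator _ _ _).symm

/-- Relative Ext sheaves commute with twisting by finite locally free modules from the base. -/
theorem nonempty_relExt_tensor [EnoughInjectives X.Modules] (F Z : X.Modules) (N : Y.Modules)
    (hN : FlatMod.IsFinLocFree N) (p : ℕ) [(homFunctor F ⋙ Scheme.Modules.pushforward f).Additive] :
    Nonempty (((homFunctor F ⋙ Scheme.Modules.pushforward f).rightDerived p).obj
        (CohB1.tensorMod Z ((Scheme.Modules.pullback f).obj N)) ≅
      CohB1.tensorMod (((homFunctor F ⋙ Scheme.Modules.pushforward f).rightDerived p).obj Z) N) := by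
  haveI : (Scheme.Modules.pushforward f).IsRightAdjoint :=
    (Scheme.Modules.pullbackPushforwardAdjunction f).isRightAdjoint
  let H := homFunctor F ⋙ Scheme.Modules.pushforward f
  let M := (Scheme.Modules.pullback f).obj N
  have hM : FlatMod.IsFinLocFree M := isFinLocFree_pullback f hN
  haveI : PreservesFiniteColimits ((DCoh.tensorBi (X := Y)).flip.obj N) :=
    haveI := preservesFiniteColimits_homFunctor _ (isFinLocFree_dual hN)
    preservesFiniteColimits_of_natIso (tensorHomIso N hN).symm
  haveI : PreservesFiniteLimits ((DCoh.tensorBi (X := Y)).flip.obj N) :=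
    preservesFiniteLimits_of_natIso (tensorHomIso N hN).symm
  haveI : ((DCoh.tensorBi (X := Y)).flip.obj N).Additive :=
    Functor.additive_of_iso (tensorHomIso N hN).symm
  haveI : ((DCoh.tensorBi (X := X)).flip.obj M).Additive :=
    Functor.additive_of_iso (tensorHomIso M hM).symm
  obtain ⟨e⟩ := nonempty_rightDerived_homPrecomp H (isFinLocFree_dual hM) p
  exact ⟨(H.rightDerived p).mapIso ((tensorHomIso M hM).app Z) ≪≫ (e.app Z).symm ≪≫
    (H02CA.ModLocalise.rdMapIso (Functor.isoWhiskerRight (tensorHomIso M hM).symm H ≪≫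
      relTensorIso f F N hN) p).app Z ≪≫
    (H02CA.RDPostcomp.postcompIso H ((DCoh.tensorBi (X := Y)).flip.obj N) p).app Z⟩

end Groth.Agent.H10Inj.SheafExt
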