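import Groth.Agent.H10Inj.SheafExt.DualTensor
import Groth.Agent.H16Derived.ProjFormula.ClosedImm
import Groth.Agent.H16Derived.KFlat.FlatIff
import Groth.Agent.S3630

/-!
# Change of rings along a closed immersion
-/

set_option autoImplicit false
set_option backward.isDefEq.respectTransparency false
set_option linter.style.haveILetI false

universe u

open CategoryTheory CategoryTheory.Limits AlgebraicGeometry TensorProduct

namespace Groth.Agent.H10Inj.SheafExt

open Groth.Agent.H16Derived.ProjFormula Groth.Agent.H16Derived.KFlat
  Groth.Agent.H16Derived.KFlat.Stalk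

variable {X P : Scheme.{u}} (i : X ⟶ P) [IsClosedImmersion i]

/-- The tensor product with a direct image is killed by the ideal. -/
theorem killed_tensor_push (M : X.Modules) (N : P.Modules) :
    Killed i (((DCoh.tensorBi (X := P)).obj ((push i).obj M)).obj N) := by
  have key : ∀ (y : P) (r : P.presheaf.stalk y), (∀ a : ((push i).obj M).presheaf.stalk y, r • a = 0) →
      ∀ t : (((DCoh.tensorBi (X := P)).obj ((push i).obj M)).obj N).presheaf.stalk y, r • t = 0 := by
    intro y r hr t
    obtain ⟨t, rfl⟩ := (stalkEquiv ((push i).obj M) N y).surjective t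
    rw [← map_smul]
    refine (congrArg _ ?_).trans (map_zero _)
    induction t using TensorProduct.induction_on with
    | zero => exact smul_zero _
    | add a b ha hb => rw [smul_add, ha, hb, add_zero]
    | tmul a b => rw [TensorProduct.smul_tmul', hr a, TensorProduct.zero_tmul]
  refine ⟨fun x r hr t => key _ r (fun a => (killed_push i M).smul_eq_zero x r hr a) t,
    fun y hy => subsingleton_of_forall_eq 0 fun t => ?_⟩
  rw [← one_smul (P.presheaf.stalk y) t]
  exact key y 1 (fun a =>
    haveI := subsingleton_stalk_push i M y hy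
    Subsingleton.elim _ _) t

/-- The projection formula for a closed immersion. -/
theorem isIso_ψ_closed (M : X.Modules) (N : P.Modules) : IsIso (ψ i M N) := by
  haveI := isIso_unit_of_killed i (killed_tensor_push i M N)
  haveI := isIso_counit_of_isClosedImmersion i M
  rw [ψ, Adjunction.homEquiv_unit]
  infer_instance

/-- `i_* M ⊗ - ≅ i_*(M ⊗ i^* -)`. -/
noncomputable def projIso (M : X.Modules) :
    (DCoh.tensorBi (X := P)).obj ((push i).obj M) ≅
      (pull i ⋙ (DCoh.tensorBi (X := X)).obj M) ⋙ push i :=
  NatIso.ofComponents (fun N => @asIso _ _ _ _ (ψ i M N) (isIso_ψ_closed i M N))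
    fun φ => ψ_naturality i M φ

/-- `i^!`. -/
noncomputable def shriek : P.Modules ⥤ X.Modules :=
  @Functor.rightAdjoint _ _ _ _ (Scheme.Modules.pushforward i) (S3630.result X P i)

/-- `i_* ⊣ i^!`. -/
noncomputable def shriekAdj : push i ⊣ shriek i :=
  @Adjunction.ofIsLeftAdjoint _ _ _ _ (Scheme.Modules.pushforward i) (S3630.result X P i)

/-- `i_*` is fully faithful. -/
noncomputable def pushFF : (push i).FullyFaithful :=
  haveI : ∀ G, IsIso ((adj i).counit.app G) := isIso_counit_of_isClosedImmersion i
  haveI : IsIso (adj i).counit := NatIso.isIso_of_isIso_app _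
  (adj i).fullyFaithfulROfIsIsoCounit

/-- `G ↦` the module `M` with `i_* M = 𝓗om(i_* E, G)`. -/
noncomputable def changeFunctor (E : X.Modules) : P.Modules ⥤ X.Modules :=
  shriek i ⋙ homFunctor E

/-- `i_*(E ⊗ -) ⊣ changeFunctor E`. -/
noncomputable def changeAdj (E : X.Modules) :
    (DCoh.tensorBi (X := X)).obj E ⋙ push i ⊣ changeFunctor i E :=
  (homAdj E).comp (shriekAdj i)

instance (E : X.Modules) : (changeFunctor i E).IsRightAdjoint := ⟨_, ⟨changeAdj i E⟩⟩

instance (E : X.Modules) : PreservesFiniteLimits (changeFunctor i E) := inferInstance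

instance (E : X.Modules) : (changeFunctor i E).Additive := by
  haveI : PreservesBinaryBiproducts (changeFunctor i E) :=
    preservesBinaryBiproducts_of_preservesBinaryProducts _
  exact Functor.additive_of_preservesBinaryBiproducts _

/-- `i_* 𝓗om(E, i^! -) = 𝓗om(i_* E, -)`. -/
noncomputable def changeIso (E : X.Modules) :
    changeFunctor i E ⋙ push i ≅ homFunctor ((push i).obj E) :=
  ((((adj i).comp (changeAdj i E))).ofNatIsoLeft
    ((Functor.associator _ _ _).symm ≪≫ (projIso i E).symm)).rightAdjointUniq (homAdj _)

/-- Composition with `𝓗om(F, -)`. -/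
noncomputable def changeTensorIso (E F : X.Modules) :
    changeFunctor i E ⋙ homFunctor F ⋙ push i ≅
      homFunctor ((push i).obj (CohB1.tensorMod E F)) :=
  (Functor.associator _ _ _) ≪≫
    Functor.isoWhiskerLeft (shriek i) ((Functor.associator _ _ _).symm ≪≫
      Functor.isoWhiskerRight (homTensorIso F E).symm (push i)) ≪≫
    (Functor.associator _ _ _).symm ≪≫ changeIso i (CohB1.tensorMod E F)

omit [IsClosedImmersion i] in
theorem preservesMonomorphisms_tensor_push {E : X.Modules} (hE : FlatMod.IsFinLocFree E) :
    ((DCoh.tensorBi (X := X)).obj E ⋙ push i).PreservesMonomorphisms := by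
  haveI : (push i).IsRightAdjoint := (adj i).isRightAdjoint
  haveI : ((DCoh.tensorBi (X := X)).obj E).PreservesMonomorphisms := by
    refine ⟨fun {A B} f _ => ?_⟩
    have h : (ShortComplex.mk f (cokernel.π f) (cokernel.condition f)).ShortExact :=
      { exact := ShortComplex.exact_of_g_is_cokernel _ (cokernelIsCokernel f) }
    have e : (DCoh.tensorBi (X := X)).flip.obj E ≅ (DCoh.tensorBi (X := X)).obj E :=
      (H15Site.ModTensor.tLIso (O := X.sheaf) E).symm
    haveI : Mono ((((DCoh.tensorBi (X := X)).flip.obj E)).map f) :=
      ((isFlat_iff_isFlatObj E).1 (isFlat_of_isFinLocFree hE) _ h).mono_f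
    exact (MorphismProperty.monomorphisms X.Modules).arrow_mk_iso_iff
      ((Functor.mapArrowFunctor _ _).mapIso e |>.app (Arrow.mk f)) |>.1 this
  infer_instance

theorem injective_changeFunctor {E : X.Modules} (hE : FlatMod.IsFinLocFree E) (I : P.Modules)
    [Injective I] : Injective ((changeFunctor i E).obj I) := by
  haveI := preservesMonomorphisms_tensor_push i hE
  exact Injective.injective_of_adjoint (changeAdj i E) I

/-- A module whose direct image is `𝓗om(i_* E, G)`. -/
noncomputable def changeObjIso (E : X.Modules) (G : P.Modules) (J : X.Modules)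
    (e : (push i).obj J ≅ (homFunctor ((push i).obj E)).obj G) : J ≅ (changeFunctor i E).obj G :=
  (pushFF i).preimageIso (e ≪≫ ((changeIso i E).app G).symm)

theorem nonempty_rightDerived_change [HasInjectiveResolutions P.Modules] (E : X.Modules) (G : P.Modules)
    (q : ℕ) (M : X.Modules)
    (e : (push i).obj M ≅ ((homFunctor ((push i).obj E)).rightDerived q).obj G) :
    Nonempty (((changeFunctor i E).rightDerived q).obj G ≅ M) := by
  haveI : (push i).PreservesHomology := preservesHomology_push i
  haveI : PreservesFiniteColimits (push i) := (push i).preservesFiniteColimits_of_preservesHomology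
  exact ⟨(pushFF i).preimageIso
    (((H02CA.RDPostcomp.postcompIso (changeFunctor i E) (push i) q).app G).symm ≪≫
      (H02CA.ModLocalise.rdMapIso (changeIso i E) q).app G ≪≫ e.symm)⟩

end Groth.Agent.H10Inj.SheafExt
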