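import Groth.Agent.H10Inj.SheafExt.Compare
import Groth.Agent.H10Inj.SheafExt.HomFunctor
import Groth.Agent.H10Coh.QCohOps
import Groth.Agent.H10Coh.FinType2

/-!
# Ext sheaves of quasi-coherent modules on affine opens
-/

set_option autoImplicit false
set_option backward.isDefEq.respectTransparency false
set_option linter.style.haveILetI false

universe u

open CategoryTheory CategoryTheory.Limits AlgebraicGeometry TopologicalSpace Opposite Abelian

namespace Groth.Agent.H10Inj.SheafExt

open Groth.Agent.H06Mod Groth.Agent.H29Ref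

variable {X : Scheme.{u}}

/-- Sections over an open, as modules over its ring of functions. -/
noncomputable def gamma (U : X.Opens) : X.Modules ⥤ ModuleCat.{u} Γ(X, U) where
  obj N := ModuleCat.of Γ(X, U) Γ(N, U)
  map {N N'} g := ModuleCat.ofHom
    { toFun := g.app U
      map_add' := map_add _
      map_smul' := fun r s => Scheme.Modules.Hom.app_smul g r s }

instance (U : X.Opens) : (gamma (X := X) U).Additive where
  map_add {_ _ _ _} := by ext; rfl

theorem exact_gamma {S : ShortComplex X.Modules} (hS : S.ShortExact) [S.X₂.IsQuasicoherent]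
    [S.X₃.IsQuasicoherent] {U : X.Opens} (hU : IsAffineOpen U) : (S.map (gamma U)).ShortExact := by
  haveI := hS.epi_g
  refine ShortComplex.ShortExact.mk' ((ShortComplex.moduleCat_exact_iff _).2 fun b hb => ?_) ?_ ?_
  · exact (exact_sections S hS U).2 b hb
  · exact (ModuleCat.mono_iff_injective _).2 (exact_sections S hS U).1
  · exact (ModuleCat.epi_iff_surjective _).2 (H10Coh.surjective_app_of_epi S.g hU)

/-- Sections over an affine open commute with cokernels of quasi-coherent modules. -/
theorem nonempty_gamma_cokernel {M N : X.Modules} (f : M ⟶ N) [M.IsQuasicoherent] [N.IsQuasicoherent]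
    {U : X.Opens} (hU : IsAffineOpen U) :
    Nonempty ((gamma U).obj (cokernel f) ≅ cokernel ((gamma U).map f)) := by
  haveI : (cokernel f).IsQuasicoherent := H10Coh.isQuasicoherent_cokernel f
  haveI : (kernel (cokernel.π f)).IsQuasicoherent := H10Coh.isQuasicoherent_kernel _
  let K := ShortComplex.mk (kernel.ι (cokernel.π f)) (cokernel.π f) (kernel.condition _)
  have hK : K.ShortExact := ShortComplex.ShortExact.mk' (ShortComplex.exact_kernel _) inferInstance inferInstance
  let e := kernel.lift (cokernel.π f) f (cokernel.condition f)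
  haveI : Epi e := (ShortComplex.exact_cokernel f).epi_kernelLift
  have hex : (ShortComplex.mk ((gamma U).map f) ((gamma U).map (cokernel.π f))
      (by rw [← Functor.map_comp, cokernel.condition, Functor.map_zero])).Exact := by
    refine (ShortComplex.moduleCat_exact_iff _).2 fun b hb => ?_
    obtain ⟨a, ha⟩ := (exact_sections K hK U).2 b hb
    obtain ⟨c, hc⟩ := H10Coh.surjective_app_of_epi e hU a
    exact ⟨c, (congr($(congrArg (fun φ => Scheme.Modules.Hom.app φ U) (kernel.lift_ι _ _ _)) c)).symm.trans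
      ((congrArg (K.f.app U) hc).trans ha)⟩
  haveI : Epi ((gamma U).map (cokernel.π f)) :=
    (ModuleCat.epi_iff_surjective _).2 (H10Coh.surjective_app_of_epi (cokernel.π f) hU)
  exact ⟨hex.gIsCokernel.coconePointUniqueUpToIso (colimit.isColimit _)⟩

variable (F : X.Modules)

/-- Sections of `𝓗om(F, N)` over an affine open are the linear maps of sections. -/
noncomputable def homSectionsEquiv (hF : Coh.IsQCoh F) {U : X.Opens} (hU : IsAffineOpen U) (N : X.Modules) :
    (gamma U).obj ((homFunctor F).obj N) ≃ₗ[Γ(X, U)] ((gamma U).obj F ⟶ (gamma U).obj N) :=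
  (LinearEquiv.ofBijective (toLinₗ F N U) (bijective_toLinₗ F N hF hU)).trans
    (ModuleCat.homLinearEquiv (S := Γ(X, U))).symm

theorem homSectionsEquiv_natural (hF : Coh.IsQCoh F) {U : X.Opens} (hU : IsAffineOpen U) {N N' : X.Modules}
    (g : N ⟶ N') (x : (gamma U).obj ((homFunctor F).obj N)) :
    homSectionsEquiv F hF hU N' (((gamma U).map ((homFunctor F).map g)).hom x) =
      homSectionsEquiv F hF hU N x ≫ (gamma U).map g := by
  refine ModuleCat.hom_ext (LinearMap.ext fun (m : Γ(F, U)) => sec_ext N' fun y hy => ?_)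
  show N'.presheaf.germ U y hy (toLin (F := F) (G := N') (((homFunctor F).map g).app U x) m) =
    N'.presheaf.germ U y hy (g.app U (toLin (F := F) (G := N) x m))
  rw [germ_toLin _ m ⟨y, hy⟩, homFunctor_map_apply, ← stalkLin_germ g y U hy, germ_toLin _ m ⟨y, hy⟩]

/-- Embedding a quasi-coherent module into an injective one. -/
theorem exists_shortExact [IsLocallyNoetherian X] (N : X.Modules) (hN : Coh.IsQCoh N) :
    ∃ S : ShortComplex X.Modules, S.ShortExact ∧ Nonempty (S.X₁ ≅ N) ∧ Injective S.X₂ ∧
      Coh.IsQCoh S.X₂ ∧ Coh.IsQCoh S.X₃ := by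
  haveI : N.IsQuasicoherent := hN
  obtain ⟨E, g, hg, hE, hEq⟩ := exists_mono_injective N
  haveI := hg
  haveI := hEq
  exact ⟨ShortComplex.mk g (cokernel.π g) (cokernel.condition g),
    ShortComplex.ShortExact.mk' (ShortComplex.exact_cokernel g) hg inferInstance, ⟨Iso.refl _⟩, hE, hEq,
    H10Coh.isQuasicoherent_cokernel g⟩

variable [IsLocallyNoetherian X] [HasInjectiveResolutions X.Modules]

attribute [local instance 10000] H10Coh.hasSheafifyAb H10Coh.hasWeakSheafifyAb H10Coh.hasExtAb H10Coh.enoughInjAb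

/-- Ext sheaves out of a coherent module into a quasi-coherent one are quasi-coherent. -/
theorem isQCoh_rightDerived (hF : Coh.IsCoh F) (i : ℕ) (N : X.Modules) (hN : Coh.IsQCoh N) :
    Coh.IsQCoh (((homFunctor F).rightDerived i).obj N) := by
  have hFP := H10Coh.isFP_of_isCoh F hF
  refine rightDerived_mem (homFunctor F) (fun N => Coh.IsQCoh N) (fun N => Coh.IsQCoh N)
    (fun e h => @H10Coh.isQuasicoherent_of_iso _ _ _ e h) (fun N hN => ?_)
    (fun N hN => isQCoh_homSh F N hFP hN) i N hN
  obtain ⟨S, hS, he, hI, h2, h3⟩ := exists_shortExact N hN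
  haveI : ((homFunctor F).obj S.X₂).IsQuasicoherent := isQCoh_homSh F _ hFP h2
  haveI : ((homFunctor F).obj S.X₃).IsQuasicoherent := isQCoh_homSh F _ hFP h3
  exact ⟨S, hS, he, hI, h2, h3, H10Coh.isQuasicoherent_cokernel _⟩

/-- Sections of Ext sheaves over affine opens are the Ext modules of sections. -/
theorem nonempty_sections_rightDerived (hF : Coh.IsCoh F) {U : X.Opens} (hU : IsAffineOpen U) (i : ℕ)
    (N : X.Modules) (hN : Coh.IsQCoh N) :
    Nonempty ((gamma U).obj (((homFunctor F).rightDerived i).obj N) ≃ₗ[Γ(X, U)]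
      Ext ((gamma U).obj F) ((gamma U).obj N) i) := by
  have hFP := H10Coh.isFP_of_isCoh F hF
  refine nonempty_rightDerived_ext (homFunctor F) (gamma U) (gamma U) ((gamma U).obj F) (fun N => Coh.IsQCoh N)
    (fun e h => @H10Coh.isQuasicoherent_of_iso _ _ _ e h) (fun N hN => ?_)
    (fun N _ => homSectionsEquiv F hF.1 hU N) (fun _ _ _ _ g x => homSectionsEquiv_natural F hF.1 hU g x) i N hN
  obtain ⟨S, hS, he, hI, h2, h3⟩ := exists_shortExact N hN
  haveI : ((homFunctor F).obj S.X₂).IsQuasicoherent := isQCoh_homSh F _ hFP h2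
  haveI : ((homFunctor F).obj S.X₃).IsQuasicoherent := isQCoh_homSh F _ hFP h3
  haveI : S.X₂.IsQuasicoherent := h2
  haveI : S.X₃.IsQuasicoherent := h3
  haveI := hI
  haveI : IsNoetherianRing Γ(X, U) := IsLocallyNoetherian.component_noetherian ⟨U, hU⟩
  haveI : Module.Injective Γ(X, U) Γ(S.X₂, U) := injective_sections S.X₂ hU
  exact ⟨S, hS, he, hI, h2, h3, exact_gamma hS hU,
    Module.injective_object_of_injective_module Γ(X, U) Γ(S.X₂, U),
    nonempty_gamma_cokernel _ hU⟩

/-- Ext sheaves of coherent modules are coherent. -/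
theorem isCoh_rightDerived (hF : Coh.IsCoh F) (i : ℕ) (N : X.Modules) (hN : Coh.IsCoh N) :
    Coh.IsCoh (((homFunctor F).rightDerived i).obj N) := by
  refine (H10Coh.isCoh_iff_finite_sections _).2 ⟨isQCoh_rightDerived F hF i N hN.1, fun U hU => ?_⟩
  haveI : IsNoetherianRing Γ(X, U) := IsLocallyNoetherian.component_noetherian ⟨U, hU⟩
  haveI : Module.Finite Γ(X, U) ((gamma U).obj F) := ((H10Coh.isCoh_iff_finite_sections F).1 hF).2 U hU
  haveI : Module.Finite Γ(X, U) ((gamma U).obj N) := ((H10Coh.isCoh_iff_finite_sections N).1 hN).2 U hU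
  obtain ⟨e⟩ := nonempty_sections_rightDerived F hF hU i N hN.1
  exact Module.Finite.equiv e.symm

end Groth.Agent.H10Inj.SheafExt
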