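import Mathlib.Algebra.Homology.ShortComplex.Exact
import Mathlib.Algebra.Homology.ShortComplex.Abelian
import Mathlib.Algebra.Homology.HomologicalComplexAbelian
import Mathlib.CategoryTheory.Abelian.RightDerived

/-!
# Computing derived objects with an acyclic resolution in the first variable
-/

set_option autoImplicit false
set_option linter.style.haveILetI false
set_option linter.unusedSectionVars false
set_option backward.isDefEq.respectTransparency false

universe v u v' u'

open CategoryTheory CategoryTheory.Limits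

namespace Groth.Agent.H10Inj.SheafExt

section Shift

variable {B : Type u} [Category.{v} B] [Abelian B] (C : CochainComplex B ℕ) (D : ℕ → ℕ → B)
  (ι : ∀ j, D j 0 ⟶ C.X j) (p : ∀ j, C.X j ⟶ D (j + 1) 0) (δ : ∀ j, D (j + 1) 0 ⟶ D j 1)
  (hd : ∀ j, C.d j (j + 1) = p j ≫ ι (j + 1))
  (wι : ∀ j, ι j ≫ p j = 0) (hι : ∀ j, Mono (ι j))
  (eι : ∀ j, (ShortComplex.mk (ι j) (p j) (wι j)).Exact)
  (wp : ∀ j, p j ≫ δ j = 0) (ep : ∀ j, (ShortComplex.mk (p j) (δ j) (wp j)).Exact)
  (hδ : ∀ j, Epi (δ j))
  (shift : ∀ j i, Nonempty (D (j + 1) (i + 1) ≅ D j (i + 2)))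

include shift in
theorem nonempty_shift_iterate (i : ℕ) : ∀ j, Nonempty (D j (i + 1) ≅ D (j + i) 1) := by
  induction i with
  | zero => exact fun j => ⟨Iso.refl _⟩
  | succ i ih =>
    intro j
    obtain ⟨e₁⟩ := shift j i
    obtain ⟨e₂⟩ := ih (j + 1)
    exact ⟨e₁.symm ≪≫ e₂ ≪≫ eqToIso (by rw [show j + 1 + i = j + (i + 1) by omega])⟩

include hd wι hι eι wp ep hδ shift in
/-- A complex made of acyclic objects has the derived objects as cohomology. -/
theorem nonempty_homology_shift (i : ℕ) : Nonempty (C.homology i ≅ D 0 i) := by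
  have hk : ∀ j, ι j ≫ C.d j (j + 1) = 0 := fun j => by rw [hd, reassoc_of% (wι j), Limits.zero_comp]
  let K : ∀ j, IsLimit (KernelFork.ofι (ι j) (hk j)) := fun j =>
    haveI : Mono (ShortComplex.mk (ι j) (p j) (wι j)).f := hι j
    haveI := hι (j + 1)
    KernelFork.IsLimit.ofι' _ _ fun k hk => ⟨(eι j).lift k (by
        rw [← cancel_mono (ι (j + 1)), Category.assoc, ← hd, hk, Limits.zero_comp]),
      (eι j).lift_f _ _⟩
  cases i with
  | zero =>
    exact ⟨(CochainComplex.isoHomologyπ₀ C).symm ≪≫
      IsLimit.conePointUniqueUpToIso (C.cyclesIsKernel 0 1 (by simp)) (K 0)⟩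
  | succ i =>
    obtain ⟨e⟩ := nonempty_shift_iterate D shift i 0
    let S := C.sc' i (i + 1) (i + 2)
    have hπ : p i ≫ δ i = 0 := wp i
    have hf' : (K (i + 1)).lift (KernelFork.ofι S.f S.zero) = p i := by
      apply Fork.IsLimit.hom_ext (K (i + 1))
      rw [Fork.IsLimit.lift_ι]
      exact hd i
    haveI : Epi (ShortComplex.mk (p i) (δ i) (wp i)).g := hδ i
    haveI := hδ i
    let h : S.LeftHomologyData :=
      { K := D (i + 1) 0
        H := D i 1
        i := ι (i + 1)
        π := δ i
        wi := hk (i + 1)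
        hi := K (i + 1)
        wπ := by rw [hf']; exact hπ
        hπ := CokernelCofork.IsColimit.ofπ' _ _ fun k hk' => ⟨(ep i).desc k (by rw [hf'] at hk'; exact hk'),
          (ep i).g_desc _ _⟩ }
    exact ⟨ShortComplex.homologyMapIso (C.isoSc' i (i + 1) (i + 2) (by simp) (by simp)) ≪≫
      h.homologyIso ≪≫ eqToIso (by rw [Nat.zero_add]) ≪≫ e.symm⟩

end Shift

section Zero

variable {A : Type u} [Category.{v} A] [Abelian A] [HasInjectiveResolutions A]
  {B : Type u'} [Category.{v'} B] [Abelian B] {F G : A ⥤ B} [F.Additive] [G.Additive]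

/-- `R⁰` is natural in the functor. -/
theorem toRightDerivedZero_natTrans (α : F ⟶ G) (X : A) :
    α.app X ≫ G.toRightDerivedZero.app X =
      F.toRightDerivedZero.app X ≫ (NatTrans.rightDerived α 0).app X := by
  let R := injectiveResolution X
  have h1 : α.app X ≫ R.toRightDerivedZero' G =
      R.toRightDerivedZero' F ≫
        HomologicalComplex.cyclesMap ((NatTrans.mapHomologicalComplex α _).app R.cocomplex) 0 := by
    rw [← cancel_mono (HomologicalComplex.iCycles _ 0)]
    simp only [Category.assoc]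
    erw [HomologicalComplex.cyclesMap_i]
    erw [InjectiveResolution.toRightDerivedZero'_comp_iCycles,
      InjectiveResolution.toRightDerivedZero'_comp_iCycles_assoc]
    exact (α.naturality (R.ι.f 0)).symm
  rw [R.toRightDerivedZero_eq F, R.toRightDerivedZero_eq G, R.rightDerived_app_eq α 0]
  simp only [Category.assoc, Iso.inv_hom_id_assoc, CochainComplex.isoHomologyπ₀]
  erw [reassoc_of% h1]
  congr 1
  erw [← reassoc_of% (HomologicalComplex.homologyπ_naturality
    ((NatTrans.mapHomologicalComplex α (ComplexShape.up ℕ)).app R.cocomplex) 0)]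
  rfl

end Zero

end Groth.Agent.H10Inj.SheafExt
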