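import Groth.Agent.H10Inj.SheafExt.ExtShift
import Groth.Agent.H10Coh.DerivedShift
import Mathlib.Algebra.Category.ModuleCat.Kernels
import Mathlib.CategoryTheory.Abelian.RightDerived

/-!
# Comparing derived functors with Ext of modules
-/

set_option autoImplicit false

universe v u w

open CategoryTheory CategoryTheory.Limits Abelian

namespace Groth.Agent.H10Inj.SheafExt

variable {A : Type w} [Category.{v} A] [Abelian A] [EnoughInjectives A]
  {B : Type w} [Category.{v} B] [Abelian B]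
  (H : A ⥤ B) [H.Additive] [PreservesFiniteLimits H]

omit [EnoughInjectives A] [PreservesFiniteLimits H] in
theorem isAcyclic_of_injective [HasInjectiveResolutions A] (I : A) [Injective I] :
    H16Derived.AcyclicLES.IsAcyclic H I := fun k hk => by
  obtain ⟨k, rfl⟩ : ∃ j, k = j + 1 := ⟨k - 1, by omega⟩
  exact Functor.isZero_rightDerived_obj_injective_succ H k I

/-- Derived functors stay in a class closed under cokernels of the functor. -/
theorem rightDerived_mem (P : A → Prop) (Q : B → Prop) (hQiso : ∀ {M N : B}, (M ≅ N) → Q M → Q N)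
    (hres : ∀ N, P N → ∃ S : ShortComplex A, S.ShortExact ∧ Nonempty (S.X₁ ≅ N) ∧ Injective S.X₂ ∧
      P S.X₂ ∧ P S.X₃ ∧ Q (cokernel (H.map S.g)))
    (h0 : ∀ N, P N → Q (H.obj N)) : ∀ (i : ℕ) (N : A), P N → Q ((H.rightDerived i).obj N) := by
  intro i
  induction i with
  | zero => exact fun N hN => hQiso ((H.rightDerivedZeroIsoSelf).app N).symm (h0 N hN)
  | succ i ih =>
    intro N hN
    obtain ⟨S, hS, ⟨e₁⟩, hI, -, hC, hcok⟩ := hres N hN
    refine hQiso ((H.rightDerived (i + 1)).mapIso e₁) ?_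
    haveI := hI
    cases i with
    | zero =>
      obtain ⟨e⟩ := H10Coh.nonempty_rightDerived_one H hS (isAcyclic_of_injective H S.X₂)
      exact hQiso e.symm hcok
    | succ i =>
      obtain ⟨e⟩ := H10Coh.nonempty_rightDerived_shift H hS (isAcyclic_of_injective H S.X₂) i
      exact hQiso e.symm (ih _ hC)

variable {R : Type u} [CommRing R] (Φ : B ⥤ ModuleCat.{u} R) (Ψ : A ⥤ ModuleCat.{u} R)
  [Ψ.PreservesZeroMorphisms] (M : ModuleCat.{u} R)

/-- A derived functor, through `Φ`, is Ext of modules, given the comparison in degree zero. -/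
theorem nonempty_rightDerived_ext (P : A → Prop) (hPiso : ∀ {N N' : A}, (N ≅ N') → P N → P N')
    (hres : ∀ N, P N → ∃ S : ShortComplex A, S.ShortExact ∧ Nonempty (S.X₁ ≅ N) ∧ Injective S.X₂ ∧
      P S.X₂ ∧ P S.X₃ ∧ (S.map Ψ).ShortExact ∧ Injective (Ψ.obj S.X₂) ∧
      Nonempty (Φ.obj (cokernel (H.map S.g)) ≅ cokernel (Φ.map (H.map S.g))))
    (ε : ∀ N, P N → (Φ.obj (H.obj N) ≃ₗ[R] (M ⟶ Ψ.obj N)))
    (hε : ∀ (N N' : A) (hN : P N) (hN' : P N') (g : N ⟶ N') (x : Φ.obj (H.obj N)),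
      ε N' hN' ((Φ.map (H.map g)).hom x) = ε N hN x ≫ Ψ.map g) :
    ∀ (i : ℕ) (N : A), P N → Nonempty (Φ.obj ((H.rightDerived i).obj N) ≃ₗ[R] Ext M (Ψ.obj N) i) := by
  intro i
  induction i with
  | zero =>
    intro N hN
    exact ⟨((Φ.mapIso ((H.rightDerivedZeroIsoSelf).app N)).toLinearEquiv.trans (ε N hN)).trans
      (Ext.linearEquiv₀ (R := R)).symm⟩
  | succ i ih =>
    intro N hN
    obtain ⟨S, hS, ⟨e₁⟩, hI, hPI, hC, hΨ, hΨI, ⟨ecok⟩⟩ := hres N hN
    haveI := hI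
    haveI : Injective (S.map Ψ).X₂ := hΨI
    suffices h : Nonempty (Φ.obj ((H.rightDerived (i + 1)).obj S.X₁) ≃ₗ[R] Ext M (Ψ.obj S.X₁) (i + 1)) by
      obtain ⟨h⟩ := h
      let e₂ : Ext M (Ψ.obj S.X₁) (i + 1) ≃ₗ[R] Ext M (Ψ.obj N) (i + 1) :=
        { Ext.postcompOfLinear (Ext.mk₀ (Ψ.mapIso e₁).hom) R M (a := i + 1) (b := i + 1) rfl with
          invFun := fun x => x.comp (Ext.mk₀ (Ψ.mapIso e₁).inv) rfl
          left_inv := fun x => by
            show (x.comp (Ext.mk₀ (Ψ.mapIso e₁).hom) rfl).comp (Ext.mk₀ (Ψ.mapIso e₁).inv) rfl = x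
            simp
          right_inv := fun x => by
            show (x.comp (Ext.mk₀ (Ψ.mapIso e₁).inv) rfl).comp (Ext.mk₀ (Ψ.mapIso e₁).hom) rfl = x
            simp }
      exact ⟨((Φ.mapIso ((H.rightDerived (i + 1)).mapIso e₁)).toLinearEquiv.symm.trans h).trans e₂⟩
    cases i with
    | zero =>
      obtain ⟨e⟩ := H10Coh.nonempty_rightDerived_one H hS (isAcyclic_of_injective H S.X₂)
      obtain ⟨e'⟩ := nonempty_ext_one M hΨ
      refine ⟨((Φ.mapIso e ≪≫ ecok ≪≫ ModuleCat.cokernelIsoRangeQuotient _).toLinearEquiv.trans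
        (Submodule.Quotient.equiv _ _ (ε S.X₃ hC) ?_)).trans e'.symm⟩
      ext y
      constructor
      · rintro ⟨_, ⟨x, rfl⟩, rfl⟩
        exact ⟨ε S.X₂ hPI x, (hε _ _ hPI hC S.g x).symm⟩
      · rintro ⟨g, rfl⟩
        exact ⟨_, ⟨(ε S.X₂ hPI).symm g, rfl⟩, (hε _ _ hPI hC S.g _).trans (by
          rw [LinearEquiv.apply_symm_apply]; rfl)⟩
    | succ i =>
      obtain ⟨e⟩ := H10Coh.nonempty_rightDerived_shift H hS (isAcyclic_of_injective H S.X₂) i
      obtain ⟨e'⟩ := nonempty_ext_shift M hΨ i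
      obtain ⟨h⟩ := ih _ hC
      exact ⟨((Φ.mapIso e).toLinearEquiv.trans h).trans e'.symm⟩

end Groth.Agent.H10Inj.SheafExt
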