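import Groth.Agent.H10Inj.SheafExt.Sections
import Groth.Agent.H10Coh.SheafHom.EndInvertible
import Groth.Agent.H22Alg.CohSupport
import Groth.Agent.H4Depth.IdealDepth
import Groth.Agent.H4Depth.LocDepth
import Groth.Agent.H8Props.FlatDepth
import Groth.Agent.H29Ref.DepthCriterion

/-!
# Depth and the vanishing of Ext sheaves
-/

set_option autoImplicit false
set_option backward.isDefEq.respectTransparency false
set_option linter.style.haveILetI false
set_option linter.unusedSectionVars false

universe u

open CategoryTheory CategoryTheory.Limits AlgebraicGeometry TopologicalSpace Opposite Abelian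

namespace Groth.Agent.H10Inj.SheafExt

variable {X : Scheme.{u}} [IsLocallyNoetherian X]

/-- The depth of a stalk is the depth of the localisation of the module of sections. -/
theorem depth_stalk_eq_localized (F : X.Modules) (hF : Coh.IsCoh F) {V : X.Opens} (hV : IsAffineOpen V) (z : V) :
    LocCoh.depth (X.presheaf.stalk z.1) (F.presheaf.stalk z.1) =
      LocCoh.depth (Localization.AtPrime (hV.primeIdealOf z).asIdeal)
        (LocalizedModule (hV.primeIdealOf z).asIdeal.primeCompl Γ(F, V)) := by
  haveI : IsNoetherianRing Γ(X, V) := IsLocallyNoetherian.component_noetherian ⟨V, hV⟩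
  haveI : Module.Finite Γ(X, V) Γ(F, V) := @H10Coh.finite_sections _ F hF.1 hF.2 _ hV
  let P := (hV.primeIdealOf z).asIdeal
  letI := TopCat.Presheaf.algebra_section_stalk X.presheaf z
  letI := Module.compHom (F.presheaf.stalk z.1) (algebraMap Γ(X, V) (X.presheaf.stalk z.1))
  haveI : IsScalarTower Γ(X, V) (X.presheaf.stalk z.1) (F.presheaf.stalk z.1) :=
    .of_algebraMap_smul fun _ _ => rfl
  haveI : IsLocalization P.primeCompl (X.presheaf.stalk z.1) := hV.isLocalization_stalk z
  haveI : IsLocalizedModule P.primeCompl (H29Fitt.germLin F z) :=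
    H29Fitt.isLocalizedModule_germLin F hF.1 hV z
  let eF := IsLocalizedModule.iso P.primeCompl (H29Fitt.germLin F z)
  let e : Localization.AtPrime P ≃ₐ[Γ(X, V)] X.presheaf.stalk z.1 :=
    IsLocalization.algEquiv P.primeCompl _ _
  letI : Algebra (Localization.AtPrime P) (X.presheaf.stalk z.1) := e.toAlgHom.toRingHom.toAlgebra
  letI : Module (Localization.AtPrime P) (F.presheaf.stalk z.1) :=
    Module.compHom _ e.toAlgHom.toRingHom
  haveI : IsScalarTower (Localization.AtPrime P) (X.presheaf.stalk z.1) (F.presheaf.stalk z.1) :=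
    .of_algebraMap_smul fun _ _ => rfl
  haveI : IsScalarTower Γ(X, V) (Localization.AtPrime P) (F.presheaf.stalk z.1) :=
    .of_algebraMap_smul fun r v => by
      show e (algebraMap Γ(X, V) (Localization.AtPrime P) r) • v = _
      rw [e.commutes, algebraMap_smul]
  haveI : Module.Finite (X.presheaf.stalk z.1) (F.presheaf.stalk z.1) :=
    Module.Finite.of_isLocalizedModule P.primeCompl (H29Fitt.germLin F z)
  haveI : Module.Finite (Localization.AtPrime P) (LocalizedModule P.primeCompl Γ(F, V)) :=
    Module.Finite.of_isLocalizedModule P.primeCompl (LocalizedModule.mkLinearMap _ _)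
  rw [H8Props.FlatDepth.depth_eq_of_surjective (R := Localization.AtPrime P)
    (S := X.presheaf.stalk z.1) (M := F.presheaf.stalk z.1) e.surjective]
  exact (H4Depth.depth_congr
    (LinearEquiv.extendScalarsOfIsLocalization P.primeCompl (Localization.AtPrime P) eF)).symm

theorem primeIdealOf_mem_support_iff (G : X.Modules) (hG : Coh.IsQCoh G) {V : X.Opens} (hV : IsAffineOpen V)
    (z : V) : hV.primeIdealOf z ∈ Module.support Γ(X, V) Γ(G, V) ↔ z.1 ∈ CohB1.support G := by
  rw [← H22Alg.CohSupport.nontrivial_stalk_iff G hG hV z]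
  exact not_subsingleton_iff_nontrivial.symm

theorem exists_point_of_prime {V : X.Opens} (hV : IsAffineOpen V) (q : PrimeSpectrum Γ(X, V)) :
    ∃ z : V, hV.primeIdealOf z = q :=
  ⟨⟨hV.fromSpec q, hV.range_fromSpec.le (Set.mem_range_self _)⟩,
    hV.fromSpec.isOpenEmbedding.injective (hV.fromSpec_primeIdealOf _)⟩

attribute [local instance 10000] H10Coh.hasSheafifyAb H10Coh.hasWeakSheafifyAb H10Coh.hasExtAb H10Coh.enoughInjAb

/-- Ext sheaves vanish below the depth along the support. -/
theorem isZero_rightDerived_of_depth [HasInjectiveResolutions X.Modules] (F G : X.Modules) (hF : Coh.IsCoh F)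
    (hG : Coh.IsCoh G) (n : ℕ)
    (h : ∀ z ∈ CohB1.support G, (n : ℕ∞) ≤ LocCoh.depth (X.presheaf.stalk z) (F.presheaf.stalk z))
    (i : ℕ) (hi : i < n) : IsZero (((homFunctor G).rightDerived i).obj F) := by
  let E := ((homFunctor G).rightDerived i).obj F
  have key : ∀ (V : X.Opens), IsAffineOpen V → Subsingleton Γ(E, V) := by
    intro V hV
    haveI : IsNoetherianRing Γ(X, V) := IsLocallyNoetherian.component_noetherian ⟨V, hV⟩
    haveI : Module.Finite Γ(X, V) Γ(F, V) := @H10Coh.finite_sections _ F hF.1 hF.2 _ hV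
    haveI : Module.Finite Γ(X, V) Γ(G, V) := @H10Coh.finite_sections _ G hG.1 hG.2 _ hV
    obtain ⟨e⟩ := nonempty_sections_rightDerived G hG hV i F hF.1
    let I := Module.annihilator Γ(X, V) Γ(G, V)
    have hI : (n : ℕ∞) ≤ LocCoh.idealDepth I Γ(F, V) := by
      rw [H4Depth.idealDepth_eq_iInf_depth_localization I Γ(F, V)]
      refine le_iInf₂ fun q hq => ?_
      obtain ⟨z, rfl⟩ := exists_point_of_prime hV q
      rw [← depth_stalk_eq_localized F hF hV z]
      refine h z.1 ((primeIdealOf_mem_support_iff G hG.1 hV z).1 ?_)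
      rw [Module.support_eq_zeroLocus]
      exact hq
    haveI : Subsingleton (Ext ((gamma V).obj G) ((gamma V).obj F) i) :=
      H4Depth.subsingleton_ext_of_lt_idealDepth (I := I) (ModuleCat.of Γ(X, V) Γ(G, V))
        (Module.support_eq_zeroLocus (R := Γ(X, V)) (M := Γ(G, V))).subset i
        (lt_of_lt_of_le (by exact_mod_cast hi) hI)
    exact e.toEquiv.subsingleton
  refine H10Coh.isZero_of_sections E fun U => subsingleton_of_forall_eq 0 fun s => ?_
  refine TopCat.Presheaf.section_ext (H10Coh.sh E) U s 0 fun x hx => ?_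
  obtain ⟨V, hV, hxV, hVU⟩ := exists_isAffineOpen_mem_and_subset (X := X) (x := x) (U := U) hx
  haveI := key V hV
  show E.presheaf.germ U x hx s = E.presheaf.germ U x hx 0
  rw [← E.presheaf.germ_res_apply (homOfLE hVU) x hxV s, ← E.presheaf.germ_res_apply (homOfLE hVU) x hxV 0]
  exact congrArg _ (Subsingleton.elim _ _)

/-- Vanishing of Ext sheaves bounds the depth along the support. -/
theorem le_depth_of_isZero_rightDerived [HasInjectiveResolutions X.Modules] (F G : X.Modules) (hF : Coh.IsCoh F)
    (hG : Coh.IsCoh G) (n : ℕ) (h : ∀ i < n, IsZero (((homFunctor G).rightDerived i).obj F))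
    (x : X) (hx : x ∈ CohB1.support G) :
    (n : ℕ∞) ≤ LocCoh.depth (X.presheaf.stalk x) (F.presheaf.stalk x) := by
  obtain ⟨V, hV, hxV, -⟩ := exists_isAffineOpen_mem_and_subset (X := X) (x := x) (U := ⊤) trivial
  haveI : IsNoetherianRing Γ(X, V) := IsLocallyNoetherian.component_noetherian ⟨V, hV⟩
  haveI : Module.Finite Γ(X, V) Γ(F, V) := @H10Coh.finite_sections _ F hF.1 hF.2 _ hV
  haveI : Module.Finite Γ(X, V) Γ(G, V) := @H10Coh.finite_sections _ G hG.1 hG.2 _ hV
  let I := Module.annihilator Γ(X, V) Γ(G, V)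
  have hI : (n : ℕ∞) ≤ LocCoh.idealDepth I Γ(F, V) := by
    refine H4Depth.le_idealDepth_of_subsingleton_ext (ModuleCat.of Γ(X, V) Γ(G, V))
      (Module.support_eq_zeroLocus (R := Γ(X, V)) (M := Γ(G, V))) n fun i hi => ?_
    obtain ⟨e⟩ := nonempty_sections_rightDerived G hG hV i F hF.1
    haveI : Subsingleton ((gamma V).obj (((homFunctor G).rightDerived i).obj F)) :=
      ModuleCat.subsingleton_of_isZero ((gamma V).map_isZero (h i hi))
    exact e.toEquiv.symm.subsingleton
  refine hI.trans ?_
  rw [depth_stalk_eq_localized F hF hV ⟨x, hxV⟩]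
  refine H4Depth.idealDepth_le_depth_localization _ ?_
  have := (primeIdealOf_mem_support_iff G hG.1 hV ⟨x, hxV⟩).2 hx
  rwa [Module.support_eq_zeroLocus] at this

end Groth.Agent.H10Inj.SheafExt
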