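import Mathlib.Algebra.Category.ModuleCat.Ext.Basic
import Mathlib.Algebra.Homology.DerivedCategory.Ext.ExactSequences
import Mathlib.Algebra.Homology.DerivedCategory.Ext.EnoughInjectives
import Mathlib.Algebra.Homology.DerivedCategory.Ext.Linear
import Mathlib.LinearAlgebra.Isomorphisms

/-!
# Dimension shifting for Ext of modules, linearly
-/

set_option autoImplicit false

universe u

open CategoryTheory CategoryTheory.Limits Abelian

namespace Groth.Agent.H10Inj.SheafExt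

variable {R : Type u} [CommRing R] (M : ModuleCat.{u} R) {S : ShortComplex (ModuleCat.{u} R)}
  (hS : S.ShortExact) [Injective S.X₂]

include hS in
/-- `Extⁿ⁺²(M, X₁) = Extⁿ⁺¹(M, X₃)`. -/
theorem nonempty_ext_shift (n : ℕ) :
    Nonempty (Ext M S.X₁ (n + 2) ≃ₗ[R] Ext M S.X₃ (n + 1)) := by
  refine ⟨(LinearEquiv.ofBijective (Ext.postcompOfLinear hS.extClass R M (a := n + 1) (b := n + 2) rfl) ⟨?_, ?_⟩).symm⟩
  · refine (injective_iff_map_eq_zero _).2 fun x hx => ?_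
    obtain ⟨x₂, rfl⟩ := Ext.covariant_sequence_exact₃ M hS x rfl hx
    rw [Ext.eq_zero_of_injective x₂]
    simp
  · intro x
    exact Ext.covariant_sequence_exact₁ M hS x (Ext.eq_zero_of_injective _) rfl

include hS in
/-- `Ext¹(M, X₁) = Hom(M, X₃) / Hom(M, X₂)`. -/
theorem nonempty_ext_one :
    Nonempty (Ext M S.X₁ 1 ≃ₗ[R] (M ⟶ S.X₃) ⧸ LinearMap.range (Linear.rightComp R M S.g)) := by
  let δ : (M ⟶ S.X₃) →ₗ[R] Ext M S.X₁ 1 :=
    (Ext.postcompOfLinear hS.extClass R M (a := 0) (b := 1) rfl).comp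
      (Ext.linearEquiv₀ (R := R) (X := M) (Y := S.X₃)).symm.toLinearMap
  have hδ : ∀ f, δ f = (Ext.mk₀ f).comp hS.extClass (zero_add 1) := fun f => rfl
  have hker : LinearMap.range (Linear.rightComp R M S.g) = LinearMap.ker δ := by
    ext f
    constructor
    · rintro ⟨g, rfl⟩
      show δ (g ≫ S.g) = 0
      rw [hδ, ← Ext.mk₀_comp_mk₀, Ext.comp_assoc_of_second_deg_zero, hS.comp_extClass, Ext.comp_zero]
    · intro hf
      obtain ⟨x₂, hx₂⟩ := Ext.covariant_sequence_exact₃ M hS (Ext.mk₀ f) (zero_add 1) hf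
      refine ⟨Ext.addEquiv₀ x₂, (Ext.mk₀_bijective M S.X₃).1 ?_⟩
      show Ext.mk₀ (Ext.addEquiv₀ x₂ ≫ S.g) = Ext.mk₀ f
      rw [← Ext.mk₀_comp_mk₀, Ext.mk₀_addEquiv₀_apply]
      exact hx₂
  refine ⟨((Submodule.quotEquivOfEq _ _ hker).trans (δ.quotKerEquivOfSurjective fun x => ?_)).symm⟩
  obtain ⟨x₃, hx₃⟩ := Ext.covariant_sequence_exact₁ M hS x (Ext.eq_zero_of_injective _) (zero_add 1)
  obtain ⟨f, rfl⟩ := (Ext.mk₀_bijective M S.X₃).2 x₃
  exact ⟨f, hx₃⟩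

end Groth.Agent.H10Inj.SheafExt
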