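import Groth.Agent.H10Inj.HomFlasque
import Groth.Agent.H10Inj.SheafExt.HomFunctor
import Groth.Agent.H16Derived.KFlat.StalkCriterion
import Groth.Agent.H11Tilde.ModLoc
import Groth.Agent.H15Site.RDSeq
import Groth.Agent.H02CA.ModNullHom
import Groth.Prelude.Def_ExtSupp

/-!
# The sheaf Hom into an injective module is exact in the first variable
-/

set_option autoImplicit false
set_option backward.isDefEq.respectTransparency false
set_option linter.style.haveILetI false

universe u

open CategoryTheory CategoryTheory.Limits AlgebraicGeometry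

namespace Groth.Agent.H10Inj.SheafExt

open Groth.Agent.H16Derived.KFlat Groth.Agent.H16Derived.KFlat.Stalk

theorem homEquiv_symm_conj {C D : Type*} [Category C] [Category D] {L₁ L₂ : C ⥤ D} {R₁ R₂ : D ⥤ C}
    (adj₁ : L₁ ⊣ R₁) (adj₂ : L₂ ⊣ R₂) (α : L₂ ⟶ L₁) {W : C} {I : D} (k : W ⟶ R₁.obj I) :
    (adj₂.homEquiv W I).symm (k ≫ (conjugateEquiv adj₁ adj₂ α).app I) =
      α.app W ≫ (adj₁.homEquiv W I).symm k := by
  rw [adj₂.homEquiv_counit, adj₁.homEquiv_counit, Functor.map_comp, Category.assoc,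
    conjugateEquiv_counit, ← Category.assoc, α.naturality, Category.assoc]

variable {X : Scheme.{u}} (S : ShortComplex X.Modules) (hS : S.ShortExact)
  {R₁ R₂ R₃ : X.Modules ⥤ X.Modules}
  (adj₁ : (DCoh.tensorBi (X := X)).flip.obj S.X₁ ⊣ R₁)
  (adj₂ : (DCoh.tensorBi (X := X)).flip.obj S.X₂ ⊣ R₂)
  (adj₃ : (DCoh.tensorBi (X := X)).flip.obj S.X₃ ⊣ R₃)

/-- `u^*`. -/
noncomputable abbrev conjF : R₂ ⟶ R₁ :=
  conjugateEquiv adj₂ adj₁ ((DCoh.tensorBi (X := X)).flip.map S.f)

/-- `v^*`. -/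
noncomputable abbrev conjG : R₃ ⟶ R₂ :=
  conjugateEquiv adj₃ adj₂ ((DCoh.tensorBi (X := X)).flip.map S.g)

include hS in
theorem rightExact_tensor (W : X.Modules) :
    Epi (((DCoh.tensorBi (X := X)).obj W).map S.g) ∧ (S.map ((DCoh.tensorBi (X := X)).obj W)).Exact := by
  haveI : ((DCoh.tensorBi (X := X)).obj W).IsLeftAdjoint := (homAdj W).isLeftAdjoint
  haveI := hS.epi_g
  haveI : ((DCoh.tensorBi (X := X)).obj W).Additive :=
    haveI := preservesBinaryBiproducts_of_preservesBinaryCoproducts ((DCoh.tensorBi (X := X)).obj W)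
    Functor.additive_of_preservesBinaryBiproducts _
  exact ⟨inferInstance, hS.exact.map_of_epi_of_preservesCokernel _ inferInstance inferInstance⟩

theorem conjG_comp_conjF_app (I : X.Modules) :
    (conjG S adj₂ adj₃).app I ≫ (conjF S adj₁ adj₂).app I = 0 := by
  apply (adj₁.homEquiv _ _).symm.injective
  rw [homEquiv_symm_conj adj₂ adj₁, ← Category.id_comp ((conjG S adj₂ adj₃).app I),
    homEquiv_symm_conj adj₃ adj₂]
  haveI := adj₁.isLeftAdjoint
  haveI : ((DCoh.tensorBi (X := X)).obj (R₃.obj I)).IsLeftAdjoint := (homAdj _).isLeftAdjoint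
  haveI : ((DCoh.tensorBi (X := X)).obj (R₃.obj I)).Additive :=
    haveI := preservesBinaryBiproducts_of_preservesBinaryCoproducts ((DCoh.tensorBi (X := X)).obj (R₃.obj I))
    Functor.additive_of_preservesBinaryBiproducts _
  rw [show (adj₁.homEquiv (R₃.obj I) I).symm 0 = 0 from by
    rw [adj₁.homEquiv_counit, Functor.map_zero, Limits.zero_comp]]
  show ((DCoh.tensorBi (X := X)).obj (R₃.obj I)).map S.f ≫ ((DCoh.tensorBi (X := X)).obj (R₃.obj I)).map S.g ≫ _ = 0
  rw [← Category.assoc, ← Functor.map_comp, S.zero, Functor.map_zero, Limits.zero_comp]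

theorem conjG_comp_conjF : conjG S adj₂ adj₃ ≫ conjF S adj₁ adj₂ = 0 :=
  NatTrans.ext (funext fun I => conjG_comp_conjF_app S adj₁ adj₂ adj₃ I)

include hS in
theorem injective_conjG (I : X.Modules) (U : X.Opens) :
    Function.Injective (((conjG S adj₂ adj₃).app I).app U) := by
  intro a b hab
  obtain ⟨a, rfl⟩ := (genEquiv U (R₃.obj I)).surjective a
  obtain ⟨b, rfl⟩ := (genEquiv U (R₃.obj I)).surjective b
  rw [← genEquiv_comp, ← genEquiv_comp] at hab
  have h := congrArg (adj₂.homEquiv _ _).symm ((genEquiv U (R₂.obj I)).injective hab)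
  rw [homEquiv_symm_conj adj₃ adj₂, homEquiv_symm_conj adj₃ adj₂] at h
  haveI := (rightExact_tensor S hS (gen U)).1
  exact congrArg (genEquiv U (R₃.obj I))
    ((adj₃.homEquiv _ _).symm.injective ((cancel_epi (((DCoh.tensorBi (X := X)).obj (gen U)).map S.g)).1 h))

include hS in
theorem exact_conj_sections (I : X.Modules) (U : X.Opens) (b : Γ(R₂.obj I, U))
    (hb : ((conjF S adj₁ adj₂).app I).app U b = 0) :
    ∃ a, ((conjG S adj₂ adj₃).app I).app U a = b := by
  obtain ⟨k, rfl⟩ := (genEquiv U (R₂.obj I)).surjective b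
  rw [← genEquiv_comp] at hb
  have h0 : genEquiv U (R₁.obj I) (0 : gen U ⟶ R₁.obj I) = 0 := by rw [genEquiv_eq]; rfl
  have h := congrArg (adj₁.homEquiv _ _).symm ((genEquiv U (R₁.obj I)).injective (hb.trans h0.symm))
  rw [homEquiv_symm_conj adj₂ adj₁] at h
  haveI := adj₁.isLeftAdjoint
  rw [show (adj₁.homEquiv (gen U) I).symm 0 = 0 from by
    rw [adj₁.homEquiv_counit, Functor.map_zero, Limits.zero_comp]] at h
  obtain ⟨he, hex⟩ := rightExact_tensor S hS (gen U)
  haveI : Epi (S.map ((DCoh.tensorBi (X := X)).obj (gen U))).g := he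
  let l : ((DCoh.tensorBi (X := X)).flip.obj S.X₃).obj (gen U) ⟶ I :=
    hex.desc ((adj₂.homEquiv _ _).symm k) h
  refine ⟨genEquiv U _ (adj₃.homEquiv _ _ l), ?_⟩
  rw [← genEquiv_comp]
  refine congrArg (genEquiv U _) ((adj₂.homEquiv _ _).symm.injective ?_)
  rw [homEquiv_symm_conj adj₃ adj₂, Equiv.symm_apply_apply]
  exact hex.g_desc _ h

include hS in
theorem mono_tensor_gen (U : X.Opens) :
    Mono (((DCoh.tensorBi (X := X)).obj (gen U)).map S.f) := by
  have e : (DCoh.tensorBi (X := X)).flip.obj (gen U) ≅ (DCoh.tensorBi (X := X)).obj (gen U) :=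
    (H15Site.ModTensor.tLIso (O := X.sheaf) (gen U)).symm
  haveI : Mono (((DCoh.tensorBi (X := X)).flip.obj (gen U)).map S.f) :=
    ((isFlat_iff_isFlatObj (gen U)).1 (isFlat_gen U) S hS).mono_f
  exact (MorphismProperty.monomorphisms X.Modules).arrow_mk_iso_iff
    ((Functor.mapArrowFunctor _ _).mapIso e |>.app (Arrow.mk S.f)) |>.1 this

include hS in
theorem surjective_conjF (I : X.Modules) [Injective I] (U : X.Opens) :
    Function.Surjective (((conjF S adj₁ adj₂).app I).app U) := by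
  intro c
  obtain ⟨k, rfl⟩ := (genEquiv U (R₁.obj I)).surjective c
  haveI := mono_tensor_gen S hS U
  let l : ((DCoh.tensorBi (X := X)).flip.obj S.X₂).obj (gen U) ⟶ I :=
    Injective.factorThru ((adj₁.homEquiv _ _).symm k) (((DCoh.tensorBi (X := X)).obj (gen U)).map S.f)
  refine ⟨genEquiv U _ (adj₂.homEquiv _ _ l), ?_⟩
  rw [← genEquiv_comp]
  refine congrArg (genEquiv U _) ((adj₁.homEquiv _ _).symm.injective ?_)
  rw [homEquiv_symm_conj adj₂ adj₁, Equiv.symm_apply_apply]
  exact Injective.comp_factorThru ((adj₁.homEquiv _ _).symm k) (((DCoh.tensorBi (X := X)).obj (gen U)).map S.f)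

include hS in
/-- `0 ⟶ f_* 𝓗om(F'', I) ⟶ f_* 𝓗om(F, I) ⟶ f_* 𝓗om(F', I) ⟶ 0` is exact. -/
theorem shortExact_push_conj {Y : Scheme.{u}} (f : X ⟶ Y) (I : X.Modules) [Injective I] :
    (ShortComplex.mk ((Scheme.Modules.pushforward f).map ((conjG S adj₂ adj₃).app I))
      ((Scheme.Modules.pushforward f).map ((conjF S adj₁ adj₂).app I))
      (by
        haveI := (Scheme.Modules.pullbackPushforwardAdjunction f).right_adjoint_additive
        rw [← Functor.map_comp, conjG_comp_conjF_app, Functor.map_zero])).ShortExact :=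
  { exact := exact_of_sections _ fun U b hb => exact_conj_sections S hS adj₁ adj₂ adj₃ I _ b hb
    mono_f := H11Tilde.mono_of_injective _ fun U s hs x hx => by
      have h0 : s = 0 := injective_conjG S hS adj₂ adj₃ I _ (hs.trans (map_zero _).symm)
      exact ⟨U, le_rfl, hx, by rw [h0]; exact map_zero _⟩
    epi_g := H11Tilde.epi_of_locally_surjective _ fun U t x hx => by
      obtain ⟨s, hs⟩ := surjective_conjF S hS adj₁ adj₂ I (f ⁻¹ᵁ U) t
      exact ⟨U, le_rfl, hx, s, hs.trans (H10Coh.mres_self _ _ _).symm⟩ }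

end Groth.Agent.H10Inj.SheafExt
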