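import Groth.Agent.H15Site.RDSeq

/-!
# The long exact sequence of right derived functors, at one object
-/

set_option autoImplicit false
set_option linter.style.haveILetI false
set_option linter.unusedSectionVars false
set_option backward.isDefEq.respectTransparency false

universe v v' u u'

open CategoryTheory CategoryTheory.Limits

namespace Groth.Agent.H10Inj.SheafExt

variable {A : Type u} [Category.{v} A] [Abelian A] [HasInjectiveResolutions A]
  {B : Type u'} [Category.{v'} B] [Abelian B]
  {Γ H P : A ⥤ B} [Γ.Additive] [H.Additive] [P.Additive] (a : Γ ⟶ H) (b : H ⟶ P)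
  (w : a ≫ b = 0)
  (hI : ∀ (I : A) [Injective I],
    (ShortComplex.mk (a.app I) (b.app I) (by rw [← NatTrans.comp_app, w]; rfl)).ShortExact)

include hI in
theorem rightDerived_les (X : A) :
    Mono ((NatTrans.rightDerived a 0).app X) ∧
    (∀ p : ℕ, ∃ w : (NatTrans.rightDerived a p).app X ≫ (NatTrans.rightDerived b p).app X = 0,
      (ShortComplex.mk _ _ w).Exact) ∧
    ∃ δ : ∀ p : ℕ, (P.rightDerived p).obj X ⟶ (Γ.rightDerived (p + 1)).obj X,
      ∀ p : ℕ,
        (∃ w : (NatTrans.rightDerived b p).app X ≫ δ p = 0, (ShortComplex.mk _ _ w).Exact) ∧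
        (∃ w : δ p ≫ (NatTrans.rightDerived a (p + 1)).app X = 0, (ShortComplex.mk _ _ w).Exact) := by
  let R := injectiveResolution X
  let S := H15Site.RDSeq.sc a b w R
  have hS := H15Site.RDSeq.shortExact_sc a b w hI R
  have ea : ∀ p : ℕ, (R.isoRightDerivedObj Γ p).hom ≫ HomologicalComplex.homologyMap S.f p =
      (NatTrans.rightDerived a p).app X ≫ (R.isoRightDerivedObj H p).hom := fun p => by
    rw [R.rightDerived_app_eq a p]
    simp [S, H15Site.RDSeq.sc]
  have eb : ∀ p : ℕ, (R.isoRightDerivedObj H p).hom ≫ HomologicalComplex.homologyMap S.g p =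
      (NatTrans.rightDerived b p).app X ≫ (R.isoRightDerivedObj P p).hom := fun p => by
    rw [R.rightDerived_app_eq b p]
    simp [S, H15Site.RDSeq.sc]
  have wab : ∀ p : ℕ, (NatTrans.rightDerived a p).app X ≫ (NatTrans.rightDerived b p).app X = 0 :=
    fun p => by
    rw [← cancel_mono (R.isoRightDerivedObj P p).hom, Category.assoc, ← eb, ← reassoc_of% ea,
      ← HomologicalComplex.homologyMap_comp, S.zero, HomologicalComplex.homologyMap_zero,
      Limits.comp_zero, Limits.zero_comp]
  refine ⟨?_, fun p => ⟨wab p, ?_⟩, fun p => H15Site.RDSeq.δR a b w hI R p, fun p => ?_⟩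
  · haveI : Mono (S.f.f 0) := (hI (R.cocomplex.X 0)).mono_f
    haveI : Mono (HomologicalComplex.cyclesMap S.f 0) := by
      haveI : Mono (HomologicalComplex.cyclesMap S.f 0 ≫ S.X₂.iCycles 0) := by
        rw [HomologicalComplex.cyclesMap_i]
        infer_instance
      exact mono_of_mono _ (S.X₂.iCycles 0)
    have hh : HomologicalComplex.homologyMap S.f 0 = (CochainComplex.isoHomologyπ₀ S.X₁).inv ≫
        HomologicalComplex.cyclesMap S.f 0 ≫ (CochainComplex.isoHomologyπ₀ S.X₂).hom := by
      rw [Iso.eq_inv_comp]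
      exact HomologicalComplex.homologyπ_naturality S.f 0
    rw [R.rightDerived_app_eq a 0]
    change Mono (_ ≫ HomologicalComplex.homologyMap S.f 0 ≫ _)
    rw [hh]
    infer_instance
  · exact (ShortComplex.exact_iff_of_iso (ShortComplex.isoMk (R.isoRightDerivedObj Γ p)
      (R.isoRightDerivedObj H p) (R.isoRightDerivedObj P p) (ea p) (eb p))).2 (hS.homology_exact₂ p)
  · refine ⟨⟨?_, ?_⟩, ⟨?_, ?_⟩⟩
    · change _ ≫ (R.isoRightDerivedObj P p).hom ≫ hS.δ p (p + 1) _ ≫ _ = 0
      rw [← reassoc_of% eb, hS.comp_δ_assoc]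
      simp
    · refine (ShortComplex.exact_iff_of_iso ?_).2 (hS.homology_exact₃ p (p + 1) (by simp))
      refine ShortComplex.isoMk (R.isoRightDerivedObj H p) (R.isoRightDerivedObj P p)
        (R.isoRightDerivedObj Γ (p + 1)) (eb p) ?_
      simp [H15Site.RDSeq.δR]
    · change ((R.isoRightDerivedObj P p).hom ≫ hS.δ p (p + 1) _ ≫ _) ≫ _ = 0
      rw [← cancel_mono (R.isoRightDerivedObj H (p + 1)).hom]
      simp only [Category.assoc, ← ea, Iso.inv_hom_id_assoc, Limits.zero_comp]
      exact (congrArg ((R.isoRightDerivedObj P p).hom ≫ ·) (hS.δ_comp p (p + 1) _)).trans Limits.comp_zero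
    · refine (ShortComplex.exact_iff_of_iso ?_).2 (hS.homology_exact₁ p (p + 1) (by simp))
      refine ShortComplex.isoMk (R.isoRightDerivedObj P p) (R.isoRightDerivedObj Γ (p + 1))
        (R.isoRightDerivedObj H (p + 1)) ?_ (ea (p + 1))
      simp [H15Site.RDSeq.δR]

end Groth.Agent.H10Inj.SheafExt
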