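import Groth.Agent.H10Inj.SheafExt.FirstVar
import Groth.Agent.H10Inj.SheafExt.RDLES
import Groth.Agent.H10Inj.SheafExt.AcyclicShift

/-!
# Relative Ext sheaves through acyclic resolutions of the first variable
-/

set_option autoImplicit false
set_option backward.isDefEq.respectTransparency false
set_option linter.style.haveILetI false

universe u

open CategoryTheory CategoryTheory.Limits AlgebraicGeometry

namespace Groth.Agent.H10Inj.SheafExt

section Generic

universe v₀ u₀ v u₁ v' u₂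

variable {M₀ : Type u₀} [Category.{v₀} M₀] [Abelian M₀]
  {A : Type u₁} [Category.{v} A] [Abelian A] [HasInjectiveResolutions A]
  {B : Type u₂} [Category.{v'} B] [Abelian B]
  (Φ : M₀ → A ⥤ B) [∀ M, (Φ M).Additive] [∀ M, PreservesFiniteLimits (Φ M)]

/-- The derived functors of a family. -/
noncomputable abbrev RE (G : A) (M : M₀) (i : ℕ) : B := ((Φ M).rightDerived i).obj G

/-- Acyclic resolutions of the first variable compute the derived functors. -/
theorem nonempty_homology_family (φ : ∀ {M M' : M₀}, (M' ⟶ M) → (Φ M ⟶ Φ M'))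
    (φ_comp : ∀ {M M' M'' : M₀} (u : M'' ⟶ M') (v : M' ⟶ M), φ (u ≫ v) = φ v ≫ φ u) (G : A)
    (les : ∀ S : ShortComplex M₀, S.ShortExact →
      Mono ((NatTrans.rightDerived (φ S.g) 0).app G) ∧
      (∀ p : ℕ, ∃ w : (NatTrans.rightDerived (φ S.g) p).app G ≫
          (NatTrans.rightDerived (φ S.f) p).app G = 0, (ShortComplex.mk _ _ w).Exact) ∧
      ∃ δ : ∀ p : ℕ, RE Φ G S.X₁ p ⟶ RE Φ G S.X₃ (p + 1),
        ∀ p : ℕ,
          (∃ w : (NatTrans.rightDerived (φ S.f) p).app G ≫ δ p = 0, (ShortComplex.mk _ _ w).Exact) ∧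
          (∃ w : δ p ≫ (NatTrans.rightDerived (φ S.g) (p + 1)).app G = 0,
            (ShortComplex.mk _ _ w).Exact))
    (L : ChainComplex M₀ ℕ) (hex : ∀ j : ℕ, L.ExactAt (j + 1))
    (hL : ∀ j p : ℕ, 1 ≤ p → IsZero (RE Φ G (L.X j) p))
    (C : CochainComplex B ℕ) (e : ∀ j : ℕ, C.X j ≅ (Φ (L.X j)).obj G)
    (hC : ∀ j : ℕ, C.d j (j + 1) ≫ (e (j + 1)).hom = (e j).hom ≫ (φ (L.d (j + 1) j)).app G)
    (i : ℕ) :
    Nonempty (C.homology i ≅ RE Φ G (cokernel (L.d 1 0)) i) := by
  let K : ℕ → M₀ := fun j => cokernel (L.d (j + 1) j)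
  let π : ∀ j, L.X j ⟶ K j := fun j => cokernel.π _
  let ι' : ∀ j, K (j + 1) ⟶ L.X j := fun j => cokernel.desc _ (L.d (j + 1) j) (L.d_comp_d _ _ _)
  have hι' : ∀ j, π (j + 1) ≫ ι' j = L.d (j + 1) j := fun j => cokernel.π_desc _ _ _
  have hS : ∀ j, (ShortComplex.mk (ι' j) (π j) (by
      rw [← cancel_epi (π (j + 1)), reassoc_of% (hι' j), cokernel.condition, Limits.comp_zero])).ShortExact := by
    intro j
    have h := (HomologicalComplex.exactAt_iff' L (j + 1 + 1) (j + 1) j (by simp) (by simp)).1 (hex j)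
    refine ShortComplex.ShortExact.mk' ?_ ?_ ?_
    · let ψ : ShortComplex.mk (L.d (j + 1) j) (π j) (cokernel.condition _) ⟶
          ShortComplex.mk (ι' j) (π j) (by
            rw [← cancel_epi (π (j + 1)), reassoc_of% (hι' j), cokernel.condition, Limits.comp_zero]) :=
        { τ₁ := π (j + 1)
          τ₂ := 𝟙 _
          τ₃ := 𝟙 _
          comm₁₂ := (hι' j).trans (Category.comp_id _).symm }
      haveI : Epi ψ.τ₁ := inferInstanceAs (Epi (cokernel.π _))
      haveI : IsIso ψ.τ₂ := inferInstanceAs (IsIso (𝟙 _))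
      haveI : Mono ψ.τ₃ := inferInstanceAs (Mono (𝟙 _))
      exact (ShortComplex.exact_iff_of_epi_of_isIso_of_mono ψ).1 (ShortComplex.exact_cokernel _)
    · exact h.mono_cokernelDesc
    · exact inferInstanceAs (Epi (cokernel.π _))
  choose w₁ e₁ using fun j => ((les _ (hS j)).2.1 0)
  choose δ hδ using fun j => (les _ (hS j)).2.2
  choose w₂ e₂ using fun j => (hδ j 0).1
  let t : ∀ M, (Φ M).obj G ≅ RE Φ G M 0 := fun M =>
    asIso ((Φ M).toRightDerivedZero.app G)
  have ht : ∀ {M M' : M₀} (u : M' ⟶ M),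
      (φ u).app G ≫ (t M').hom = (t M).hom ≫ (NatTrans.rightDerived (φ u) 0).app G :=
    fun u => toRightDerivedZero_natTrans (φ u) G
  refine nonempty_homology_shift C (fun j i => RE Φ G (K j) i)
    (fun j => (NatTrans.rightDerived (φ (π j)) 0).app G ≫ (t (L.X j)).inv ≫ (e j).inv)
    (fun j => (e j).hom ≫ (t (L.X j)).hom ≫ (NatTrans.rightDerived (φ (ι' j)) 0).app G)
    (fun j => δ j 0) ?_ ?_ ?_ ?_ ?_ ?_ ?_ ?_ i
  · intro j
    have h1 : (NatTrans.rightDerived (φ (L.d (j + 1) j)) 0).app G =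
        (NatTrans.rightDerived (φ (ι' j)) 0).app G ≫
          (NatTrans.rightDerived (φ (π (j + 1))) 0).app G := by
      rw [← NatTrans.comp_app, ← NatTrans.rightDerived_comp, ← φ_comp, hι' j]
    rw [← cancel_mono (e (j + 1)).hom, hC j]
    simp only [Category.assoc, Iso.inv_hom_id, Category.comp_id, ← reassoc_of% h1]
    rw [← reassoc_of% (ht (L.d (j + 1) j))]
    simp
  · intro j
    simp only [Category.assoc, Iso.inv_hom_id_assoc]
    exact w₁ j
  · intro j
    haveI := (les _ (hS j)).1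
    infer_instance
  · intro j
    refine (ShortComplex.exact_iff_of_iso ?_).2 (e₁ j)
    refine ShortComplex.isoMk (Iso.refl _) (e j ≪≫ t (L.X j)) (Iso.refl _) ?_ ?_
    all_goals simp
  · intro j
    simp only [Category.assoc]
    rw [w₂ j, Limits.comp_zero, Limits.comp_zero]
  · intro j
    refine (ShortComplex.exact_iff_of_iso ?_).2 (e₂ j)
    refine ShortComplex.isoMk (e j ≪≫ t (L.X j)) (Iso.refl _) (Iso.refl _) ?_ ?_
    all_goals simp
  · intro j
    obtain ⟨w₃, e₃⟩ := (hδ j 0).2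
    exact e₃.epi_f ((hL j 1 le_rfl).eq_of_tgt _ _)
  · intro j p
    obtain ⟨w₄, e₄⟩ := (hδ j (p + 1)).1
    obtain ⟨w₅, e₅⟩ := (hδ j (p + 1)).2
    haveI : Mono (δ j (p + 1)) := e₄.mono_g ((hL j (p + 1) (by omega)).eq_of_src _ _)
    haveI : Epi (δ j (p + 1)) := e₅.epi_f ((hL j (p + 1 + 1) (by omega)).eq_of_tgt _ _)
    haveI := isIso_of_mono_of_epi (δ j (p + 1))
    exact ⟨asIso (δ j (p + 1))⟩

end Generic

variable {X Y : Scheme.{u}}

/-- `- ⊗ M ⊣ 𝓗om(M, -)`. -/
noncomputable def flipAdj (M : X.Modules) : (DCoh.tensorBi (X := X)).flip.obj M ⊣ homFunctor M :=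
  (homAdj M).ofNatIsoLeft (H15Site.ModTensor.tLIso (O := X.sheaf) M)

/-- `u^*`. -/
noncomputable def homPre {M M' : X.Modules} (u : M' ⟶ M) : homFunctor M ⟶ homFunctor M' :=
  conjugateEquiv (flipAdj M) (flipAdj M') ((DCoh.tensorBi (X := X)).flip.map u)

theorem homPre_comp {M M' M'' : X.Modules} (u : M'' ⟶ M') (v : M' ⟶ M) :
    homPre (u ≫ v) = homPre v ≫ homPre u := by
  rw [homPre, homPre, homPre, conjugateEquiv_comp, Functor.map_comp]

variable (f : X ⟶ Y)

/-- `f_* 𝓗om(M, -)`. -/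
noncomputable abbrev relHom (M : X.Modules) : X.Modules ⥤ Y.Modules :=
  homFunctor M ⋙ Scheme.Modules.pushforward f

instance (M : X.Modules) : PreservesFiniteLimits (relHom f M) :=
  haveI : (Scheme.Modules.pushforward f).IsRightAdjoint :=
    (Scheme.Modules.pullbackPushforwardAdjunction f).isRightAdjoint
  inferInstance

instance (M : X.Modules) : (relHom f M).Additive :=
  haveI := (Scheme.Modules.pullbackPushforwardAdjunction f).right_adjoint_additive
  inferInstance

/-- `u^*`. -/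
noncomputable abbrev relPre {M M' : X.Modules} (u : M' ⟶ M) : relHom f M ⟶ relHom f M' :=
  Functor.whiskerRight (homPre u) (Scheme.Modules.pushforward f)

variable [HasInjectiveResolutions X.Modules] (G : X.Modules)

/-- `Ext^i_f(M, G)`. -/
noncomputable abbrev relExt (M : X.Modules) (i : ℕ) : Y.Modules :=
  ((relHom f M).rightDerived i).obj G

theorem relExt_les (S : ShortComplex X.Modules) (hS : S.ShortExact) :
    Mono ((NatTrans.rightDerived (relPre f S.g) 0).app G) ∧
    (∀ p : ℕ, ∃ w : (NatTrans.rightDerived (relPre f S.g) p).app G ≫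
        (NatTrans.rightDerived (relPre f S.f) p).app G = 0, (ShortComplex.mk _ _ w).Exact) ∧
    ∃ δ : ∀ p : ℕ, relExt f G S.X₁ p ⟶ relExt f G S.X₃ (p + 1),
      ∀ p : ℕ,
        (∃ w : (NatTrans.rightDerived (relPre f S.f) p).app G ≫ δ p = 0, (ShortComplex.mk _ _ w).Exact) ∧
        (∃ w : δ p ≫ (NatTrans.rightDerived (relPre f S.g) (p + 1)).app G = 0,
          (ShortComplex.mk _ _ w).Exact) := by
  haveI := (Scheme.Modules.pullbackPushforwardAdjunction f).right_adjoint_additive
  have w : relPre f S.g ≫ relPre f S.f = 0 := by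
    refine NatTrans.ext (funext fun I => ?_)
    show (Scheme.Modules.pushforward f).map ((conjG S (flipAdj S.X₂) (flipAdj S.X₃)).app I) ≫
      (Scheme.Modules.pushforward f).map ((conjF S (flipAdj S.X₁) (flipAdj S.X₂)).app I) = 0
    rw [← Functor.map_comp, conjG_comp_conjF_app, Functor.map_zero]
  exact rightDerived_les (relPre f S.g) (relPre f S.f) w
    (fun I _ => shortExact_push_conj S hS (flipAdj S.X₁) (flipAdj S.X₂) (flipAdj S.X₃) f I) G

/-- Relative Ext sheaves out of the cokernel of an acyclic resolution. -/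
theorem nonempty_homology_resolution (L : ChainComplex X.Modules ℕ)
    (hex : ∀ j : ℕ, L.ExactAt (j + 1))
    (hL : ∀ j p : ℕ, 1 ≤ p → IsZero (relExt f G (L.X j) p))
    (C : CochainComplex Y.Modules ℕ) (e : ∀ j : ℕ, C.X j ≅ (relHom f (L.X j)).obj G)
    (hC : ∀ j : ℕ, C.d j (j + 1) ≫ (e (j + 1)).hom = (e j).hom ≫ (relPre f (L.d (j + 1) j)).app G)
    (i : ℕ) :
    Nonempty (C.homology i ≅ relExt f G (cokernel (L.d 1 0)) i) := by
  exact nonempty_homology_family (relHom f) (fun u => relPre f u)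
    (fun u v => by rw [relPre, relPre, relPre, homPre_comp, Functor.whiskerRight_comp])
    G (relExt_les f G) L hex hL C e hC i

section Site

/-- The chosen internal Hom on the site, compatibly with contravariance. -/
noncomputable def siteHomIso (M : X.Modules) [ModSite.HasSheafHom (O := X.sheaf) M] :
    (ModSite.sheafHom (O := X.sheaf) M : X.Modules ⥤ X.Modules) ≅ homFunctor M :=
  conjugateIsoEquiv
    (ModSite.sheafHomAdj (O := X.sheaf) M : (DCoh.tensorBi (X := X)).flip.obj M ⊣ _) (flipAdj M) (Iso.refl _)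

omit [HasInjectiveResolutions X.Modules] in
theorem siteHomIso_natural {M M' : X.Modules} [ModSite.HasSheafHom (O := X.sheaf) M]
    [ModSite.HasSheafHom (O := X.sheaf) M'] (u : M' ⟶ M) :
    (ExtSupp.sheafHomMap (O := X.sheaf) u : (ModSite.sheafHom (O := X.sheaf) M : X.Modules ⥤ X.Modules) ⟶ _) ≫
      (siteHomIso M').hom = (siteHomIso M).hom ≫ homPre u := by
  refine (conjugateEquiv_comp
    (ModSite.sheafHomAdj (O := X.sheaf) M : (DCoh.tensorBi (X := X)).flip.obj M ⊣ _)
    (ModSite.sheafHomAdj (O := X.sheaf) M' : (DCoh.tensorBi (X := X)).flip.obj M' ⊣ _) (flipAdj M')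
    ((DCoh.tensorBi (X := X)).flip.map u) (𝟙 _)).trans ?_
  refine Eq.trans ?_ (conjugateEquiv_comp
    (ModSite.sheafHomAdj (O := X.sheaf) M : (DCoh.tensorBi (X := X)).flip.obj M ⊣ _)
    (flipAdj M) (flipAdj M') (𝟙 _) ((DCoh.tensorBi (X := X)).flip.map u)).symm
  rw [Category.id_comp, Category.comp_id]

end Site

section Sheaf

omit [HasInjectiveResolutions X.Modules] in
theorem shortExact_homPre (S : ShortComplex X.Modules) (hS : S.ShortExact) (I : X.Modules) [Injective I] :
    (ShortComplex.mk ((homPre S.g).app I) ((homPre S.f).app I)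
      (conjG_comp_conjF_app S (flipAdj S.X₁) (flipAdj S.X₂) (flipAdj S.X₃) I)).ShortExact := by
  refine ShortComplex.shortExact_of_iso ?_
    (shortExact_push_conj S hS (flipAdj S.X₁) (flipAdj S.X₂) (flipAdj S.X₃) (𝟙 X) I)
  refine ShortComplex.isoMk ((Scheme.Modules.pushforwardId X).app _)
    ((Scheme.Modules.pushforwardId X).app _) ((Scheme.Modules.pushforwardId X).app _) ?_ ?_
  · exact ((Scheme.Modules.pushforwardId X).hom.naturality _).symm
  · exact ((Scheme.Modules.pushforwardId X).hom.naturality _).symm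

theorem isZero_rightDerived_of_exact {A B : Type*} [Category A] [Abelian A] [HasInjectiveResolutions A]
    [Category B] [Abelian B] (R : A ⥤ B) [R.Additive] [PreservesFiniteLimits R] [PreservesFiniteColimits R]
    (Z : A) (p : ℕ) (hp : 1 ≤ p) : IsZero ((R.rightDerived p).obj Z) := by
  obtain ⟨p, rfl⟩ : ∃ q, p = q + 1 := ⟨p - 1, by omega⟩
  let I := injectiveResolution Z
  refine IsZero.of_iso ?_ (I.isoRightDerivedObj R (p + 1))
  refine (ShortComplex.exact_iff_isZero_homology _).1 ?_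
  refine ShortComplex.exact_of_iso (((R.mapHomologicalComplex _).obj I.cocomplex).isoSc' p (p + 1) (p + 2)
    (by simp) (by simp)).symm ?_
  exact ((I.exact_succ p)).map R

/-- Ext sheaves through resolutions by modules with exact sheaf Hom. -/
theorem nonempty_homology_homFunctor (G : X.Modules) (L : ChainComplex X.Modules ℕ)
    (hex : ∀ j : ℕ, L.ExactAt (j + 1))
    (hL : ∀ j p : ℕ, 1 ≤ p → IsZero (((homFunctor (L.X j)).rightDerived p).obj G))
    (C : CochainComplex X.Modules ℕ) (e : ∀ j : ℕ, C.X j ≅ (homFunctor (L.X j)).obj G)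
    (hC : ∀ j : ℕ, C.d j (j + 1) ≫ (e (j + 1)).hom = (e j).hom ≫ (homPre (L.d (j + 1) j)).app G)
    (i : ℕ) :
    Nonempty (C.homology i ≅ ((homFunctor (cokernel (L.d 1 0))).rightDerived i).obj G) :=
  nonempty_homology_family (fun M => homFunctor M) (fun u => homPre u) (fun u v => homPre_comp u v) G
    (fun S hS => rightDerived_les (homPre S.g) (homPre S.f)
      (NatTrans.ext (funext fun I => conjG_comp_conjF_app S (flipAdj S.X₁) (flipAdj S.X₂) (flipAdj S.X₃) I))
      (fun I _ => shortExact_homPre S hS I) G)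
    L hex hL C e hC i

end Sheaf

end Groth.Agent.H10Inj.SheafExt
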