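import Groth.Agent.H10Inj.SheafExt.HomFunctor
import Groth.Agent.H10Coh.SheafHom.Pullback
import Groth.Agent.H16Derived.KFlat.RestrictD
import Groth.Agent.H11Ample.Restrict
import Groth.Agent.H10Coh.SheafHom.EndInvertible
import Groth.Agent.H06Mod.StalkExact

/-!
# The sheaf Hom commutes with restriction to an open subscheme
-/

set_option autoImplicit false
set_option backward.isDefEq.respectTransparency false
set_option linter.style.haveILetI false

universe u

open CategoryTheory CategoryTheory.Limits AlgebraicGeometry TopologicalSpace Opposite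

namespace Groth.Agent.H10Inj.SheafExt

open Groth.Agent.H06Mod Groth.Agent.H29Ref Groth.Agent.H10Coh.SheafHom Groth.Agent.H16Derived.KFlat.Stalk

variable {X : Scheme.{u}}

theorem homSh_hom_ext {F N : X.Modules} {W : X.Opens} {f f' : Γ(RefHull.homSh F N, W)}
    (h : ∀ (V : X.Opens) (e : V ≤ W) (m : Γ(F, V)),
      toLin ((RefHull.homSh F N).presheaf.map (homOfLE e).op f) m =
        toLin ((RefHull.homSh F N).presheaf.map (homOfLE e).op f') m) : f = f' := by
  refine Subtype.ext (funext fun y => LinearMap.ext fun v => ?_)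
  obtain ⟨V, hV, m, rfl⟩ := TopCat.Presheaf.exists_germ_eq F.presheaf v
  rw [← F.presheaf.germ_res_apply (homOfLE (inf_le_left : V ⊓ W ≤ V)) y.1 ⟨hV, y.2⟩]
  generalize F.presheaf.map (homOfLE (inf_le_left : V ⊓ W ≤ V)).op m = m'
  have h' := congrArg (N.presheaf.germ (V ⊓ W) y.1 ⟨hV, y.2⟩) (h (V ⊓ W) inf_le_right m')
  rw [germ_toLin _ _ (⟨y.1, ⟨hV, y.2⟩⟩ : ↥(V ⊓ W)), germ_toLin _ _ (⟨y.1, ⟨hV, y.2⟩⟩ : ↥(V ⊓ W))] at h'
  exact h'

variable (U : X.Opens) (F : X.Modules)

local notation "R" => Scheme.Modules.restrictFunctor (Scheme.Opens.ι U)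

/-- Evaluation of a section of the sheaf Hom on the restricted modules. -/
noncomputable def ev (N : X.Modules) (V : U.toScheme.Opens) (m : Γ(F.restrict U.ι, V))
    (n : Γ((RefHull.homSh F N).restrict U.ι, V)) : Γ(N.restrict U.ι, V) :=
  H11Ample.ofImg U N (toLin (H11Ample.toImg U (RefHull.homSh F N) n) (H11Ample.toImg U F m))

theorem ev_add_left (N : X.Modules) (V : U.toScheme.Opens) (m m' : Γ(F.restrict U.ι, V))
    (n : Γ((RefHull.homSh F N).restrict U.ι, V)) : ev U F N V (m + m') n = ev U F N V m n + ev U F N V m' n :=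
  (toLin (H11Ample.toImg U (RefHull.homSh F N) n)).map_add (H11Ample.toImg U F m) (H11Ample.toImg U F m')

theorem ev_smul_left (N : X.Modules) (V : U.toScheme.Opens) (r : Γ(U.toScheme, V)) (m : Γ(F.restrict U.ι, V))
    (n : Γ((RefHull.homSh F N).restrict U.ι, V)) : ev U F N V (r • m) n = r • ev U F N V m n := by
  unfold ev
  rw [H11Ample.toImg_smul, map_smul]
  exact (H11Ample.toImg_smul U N r (H11Ample.ofImg U N _)).symm

theorem ev_add_right (N : X.Modules) (V : U.toScheme.Opens) (m : Γ(F.restrict U.ι, V))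
    (n n' : Γ((RefHull.homSh F N).restrict U.ι, V)) : ev U F N V m (n + n') = ev U F N V m n + ev U F N V m n' :=
  LinearMap.congr_fun ((toLinₗ F N (U.ι ''ᵁ V)).map_add (H11Ample.toImg U (RefHull.homSh F N) n)
    (H11Ample.toImg U (RefHull.homSh F N) n')) (H11Ample.toImg U F m)

theorem ev_smul_right (N : X.Modules) (V : U.toScheme.Opens) (r : Γ(U.toScheme, V)) (m : Γ(F.restrict U.ι, V))
    (n : Γ((RefHull.homSh F N).restrict U.ι, V)) : ev U F N V m (r • n) = r • ev U F N V m n := by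
  unfold ev
  rw [H11Ample.toImg_smul]
  refine (LinearMap.congr_fun ((toLinₗ F N (U.ι ''ᵁ V)).map_smul ((U.ι.appIso V).inv r)
    (H11Ample.toImg U (RefHull.homSh F N) n)) (H11Ample.toImg U F m)).trans ?_
  exact (H11Ample.toImg_smul U N r (H11Ample.ofImg U N _)).symm

theorem ev_res (N : X.Modules) (V V' : U.toScheme.Opens) (i : V' ⟶ V) (m : Γ(F.restrict U.ι, V))
    (n : Γ((RefHull.homSh F N).restrict U.ι, V)) :
    ev U F N V' ((F.restrict U.ι).presheaf.map i.op m) (((RefHull.homSh F N).restrict U.ι).presheaf.map i.op n) =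
      (N.restrict U.ι).presheaf.map i.op (ev U F N V m n) := by
  rw [Subsingleton.elim i (homOfLE i.le)]
  exact toLin_res (U.ι.image_mono i.le) (H11Ample.toImg U (RefHull.homSh F N) n) (H11Ample.toImg U F m)

/-- The comparison morphism. -/
noncomputable def restrictHomMap (N : X.Modules) :
    (RefHull.homSh F N).restrict U.ι ⟶ RefHull.homSh (F.restrict U.ι) (N.restrict U.ι) :=
  curry (desc (ev U F N) (ev_add_left U F N) (ev_smul_left U F N) (ev_add_right U F N) (ev_smul_right U F N)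
    (ev_res U F N))

theorem toLin_restrictHomMap (N : X.Modules) (V : U.toScheme.Opens)
    (n : Γ((RefHull.homSh F N).restrict U.ι, V)) (m : Γ(F.restrict U.ι, V)) :
    toLin ((restrictHomMap U F N).app V n) m = ev U F N V m n := by
  have h := uncurry_tensorSect (restrictHomMap U F N) V m n
  have h2 : uncurry (restrictHomMap U F N) = desc (ev U F N) (ev_add_left U F N) (ev_smul_left U F N)
      (ev_add_right U F N) (ev_smul_right U F N) (ev_res U F N) :=
    (homEquiv (F.restrict U.ι) ((RefHull.homSh F N).restrict U.ι) (N.restrict U.ι)).left_inv _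
  rw [h2, desc_tensorSect] at h
  exact h.symm

theorem toImg_ev_res (N : X.Modules) (V V' : U.toScheme.Opens) (e : V' ≤ V) (m : Γ(F.restrict U.ι, V'))
    (n : Γ((RefHull.homSh F N).restrict U.ι, V)) :
    H11Ample.toImg U N (ev U F N V' m (((RefHull.homSh F N).restrict U.ι).presheaf.map (homOfLE e).op n)) =
      toLin ((RefHull.homSh F N).presheaf.map (homOfLE (U.ι.image_mono e)).op (H11Ample.toImg U _ n))
        (H11Ample.toImg U F m) := by
  unfold ev
  rw [H11Ample.toImg_res]

theorem image_preimage_of_le {W : X.Opens} (hW : W ≤ U) : U.ι ''ᵁ (U.ι ⁻¹ᵁ W) = W := by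
  rw [Scheme.Hom.image_preimage_eq_opensRange_inf, Scheme.Opens.opensRange_ι, inf_eq_right.mpr hW]

theorem inj_aux (N : X.Modules) (V V' : U.toScheme.Opens) (e' : V' ≤ V)
    (n n' : Γ((RefHull.homSh F N).restrict U.ι, V)) (h : (restrictHomMap U F N).app V n = (restrictHomMap U F N).app V n')
    (m : Γ(F.restrict U.ι, V')) :
    H11Ample.toImg U N (ev U F N V' m (((RefHull.homSh F N).restrict U.ι).presheaf.map (homOfLE e').op n)) =
    H11Ample.toImg U N (ev U F N V' m (((RefHull.homSh F N).restrict U.ι).presheaf.map (homOfLE e').op n')) := by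
  rw [← toLin_restrictHomMap, ← toLin_restrictHomMap, H11Tilde.app_map_apply, H11Tilde.app_map_apply, h]

theorem inj_aux' (N : X.Modules) (V V' : U.toScheme.Opens) (e' : V' ≤ V)
    (n n' : Γ((RefHull.homSh F N).restrict U.ι, V)) (h : (restrictHomMap U F N).app V n = (restrictHomMap U F N).app V n')
    (m : Γ(F.restrict U.ι, V')) :
    toLin ((RefHull.homSh F N).presheaf.map (homOfLE (U.ι.image_mono e')).op (H11Ample.toImg U _ n))
        (H11Ample.toImg U F m) =
      toLin ((RefHull.homSh F N).presheaf.map (homOfLE (U.ι.image_mono e')).op (H11Ample.toImg U _ n'))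
        (H11Ample.toImg U F m) :=
  (toImg_ev_res U F N V V' e' m n).symm.trans ((inj_aux U F N V V' e' n n' h m).trans (toImg_ev_res U F N V V' e' m n'))

theorem eq_of_toImg {G : X.Modules} {V : U.toScheme.Opens} {n n' : Γ(G.restrict U.ι, V)}
    (h : H11Ample.toImg U G n = H11Ample.toImg U G n') : n = n' := h

theorem restrictHomMap_injective (N : X.Modules) (V : U.toScheme.Opens) :
    Function.Injective ((restrictHomMap U F N).app V) := by
  intro n n' h
  suffices key : ∀ (W : X.Opens) (e : W ≤ U.ι ''ᵁ V) (m : Γ(F, W)),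
      toLin ((RefHull.homSh F N).presheaf.map (homOfLE e).op (H11Ample.toImg U _ n)) m =
        toLin ((RefHull.homSh F N).presheaf.map (homOfLE e).op (H11Ample.toImg U _ n')) m from
    eq_of_toImg (G := RefHull.homSh F N) U (homSh_hom_ext key)
  intro W e m
  have hV : U.ι ''ᵁ (U.ι ⁻¹ᵁ W) = W := image_preimage_of_le U (e.trans (U.ι_image_le V))
  generalize U.ι ⁻¹ᵁ W = V' at hV
  subst hV
  have h3 := inj_aux' U F N V V' ((U.ι.image_le_image_iff V' V).1 e) n n' h (H11Ample.ofImg U F m)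
  exact h3

theorem toImg_map {G G' : X.Modules} (g : G ⟶ G') {V : U.toScheme.Opens} (t : Γ(G.restrict U.ι, V)) :
    H11Ample.toImg U G' (((R).map g).app V t) = g.app (U.ι ''ᵁ V) (H11Ample.toImg U G t) := rfl

theorem toImg_ofImg (G : X.Modules) {V : U.toScheme.Opens} (t : Γ(G, U.ι ''ᵁ V)) :
    H11Ample.toImg U G (H11Ample.ofImg U G t) = t := rfl

/-- A stalk of the restriction as the stalk. -/
noncomputable def stalkOut (G : X.Modules) (x : U) :
    (G.restrict U.ι).presheaf.stalk x →+ G.presheaf.stalk x.1 :=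
  ((Scheme.Modules.restrictStalkNatIso U.ι x).hom.app G).hom

/-- A stalk as the stalk of the restriction. -/
noncomputable def stalkIn (G : X.Modules) (x : U) :
    G.presheaf.stalk x.1 →+ (G.restrict U.ι).presheaf.stalk x :=
  ((Scheme.Modules.restrictStalkNatIso U.ι x).inv.app G).hom

theorem stalkOut_germ (G : X.Modules) (x : U) (V' : U.toScheme.Opens) (hx' : x ∈ V') (hy : x.1 ∈ U.ι ''ᵁ V')
    (t : Γ(G.restrict U.ι, V')) :
    stalkOut U G x ((G.restrict U.ι).presheaf.germ V' x hx' t) =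
      G.presheaf.germ (U.ι ''ᵁ V') x.1 hy (H11Ample.toImg U G t) :=
  congr($(Scheme.Modules.germ_restrictStalkNatIso_hom_app U.ι (U := V') x G hx') t)

theorem stalkIn_germ (G : X.Modules) (x : U) (V' : U.toScheme.Opens) (hx' : x ∈ V') (hy : x.1 ∈ U.ι ''ᵁ V')
    (t : Γ(G.restrict U.ι, V')) :
    stalkIn U G x (G.presheaf.germ (U.ι ''ᵁ V') x.1 hy (H11Ample.toImg U G t)) =
      (G.restrict U.ι).presheaf.germ V' x hx' t :=
  congr($(Scheme.Modules.germ_restrictStalkNatIso_inv_app U.ι (U := V') x G hx') t)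

/-- The value of a section on the restriction at sections of the restriction. -/
noncomputable def loc {N : X.Modules} {V : U.toScheme.Opens}
    (f : Γ(RefHull.homSh (F.restrict U.ι) (N.restrict U.ι), V)) {V' : U.toScheme.Opens} (e : V' ≤ V)
    (m : Γ(F.restrict U.ι, V')) : Γ(N.restrict U.ι, V') :=
  toLin ((RefHull.homSh (F.restrict U.ι) (N.restrict U.ι)).presheaf.map (homOfLE e).op f) m

theorem key {N : X.Modules} {V : U.toScheme.Opens} (f : Γ(RefHull.homSh (F.restrict U.ι) (N.restrict U.ι), V))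
    (x : U) (hx : x ∈ V) {V' : U.toScheme.Opens} (e : V' ≤ V) (hx' : x ∈ V') (hy : x.1 ∈ U.ι ''ᵁ V')
    (m : Γ(F.restrict U.ι, V')) :
    stalkOut U N x (f.1 ⟨x, hx⟩ (stalkIn U F x (F.presheaf.germ (U.ι ''ᵁ V') x.1 hy (H11Ample.toImg U F m)))) =
      N.presheaf.germ (U.ι ''ᵁ V') x.1 hy (H11Ample.toImg U N (loc U F f e m)) := by
  rw [stalkIn_germ U F x V' hx' hy m, ← stalkOut_germ U N x V' hx' hy (loc U F f e m)]
  exact congrArg (stalkOut U N x) (germ_toLin
    ((RefHull.homSh (F.restrict U.ι) (N.restrict U.ι)).presheaf.map (homOfLE e).op f) m ⟨x, hx'⟩).symm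

theorem loc_smul {N : X.Modules} {V : U.toScheme.Opens} (f : Γ(RefHull.homSh (F.restrict U.ι) (N.restrict U.ι), V))
    {V' : U.toScheme.Opens} (e : V' ≤ V) (r : Γ(X, U.ι ''ᵁ V')) (m : Γ(F, U.ι ''ᵁ V')) :
    H11Ample.toImg U N (loc U F f e (H11Ample.ofImg U F (r • m))) =
      r • H11Ample.toImg U N (loc U F f e (H11Ample.ofImg U F m)) := by
  have hr : (U.ι.appIso V').inv ((U.ι.appIso V').hom r) = r := congr($((U.ι.appIso V').hom_inv_id) r)
  have h1 : H11Ample.ofImg U F (r • m) = ((U.ι.appIso V').hom r) • H11Ample.ofImg U F m := by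
    refine eq_of_toImg (G := F) U ?_
    rw [H11Ample.toImg_smul, toImg_ofImg, toImg_ofImg, hr]
  rw [h1, loc, map_smul, H11Ample.toImg_smul, hr]
  rfl

theorem restrictHomMap_surjective (N : X.Modules) (V : U.toScheme.Opens) :
    Function.Surjective ((restrictHomMap U F N).app V) := by
  intro f
  have hθ : ∀ y : ↥(U.ι ''ᵁ V), ∃ θ : RefHull.StalkHom F N y.1,
      ∀ (V' : U.toScheme.Opens) (e : V' ≤ V) (hy : y.1 ∈ U.ι ''ᵁ V') (m : Γ(F.restrict U.ι, V')),
        θ (F.presheaf.germ (U.ι ''ᵁ V') y.1 hy (H11Ample.toImg U F m)) =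
          N.presheaf.germ (U.ι ''ᵁ V') y.1 hy (H11Ample.toImg U N (loc U F f e m)) := by
    rintro ⟨y, hy0⟩
    obtain ⟨x, hx, rfl⟩ : ∃ x : U, x ∈ V ∧ x.1 = y := by
      obtain ⟨x, hx, hxy⟩ := hy0
      exact ⟨x, hx, hxy⟩
    let θ₀ : F.presheaf.stalk x.1 →+ N.presheaf.stalk x.1 :=
      (stalkOut U N x).comp ((f.1 ⟨x, hx⟩).toAddMonoidHom.comp (stalkIn U F x))
    have hlin : ∀ (r : X.presheaf.stalk x.1) (v : F.presheaf.stalk x.1), θ₀ (r • v) = r • θ₀ v := by
      intro r v
      obtain ⟨W₁, h₁, r, rfl⟩ := TopCat.Presheaf.exists_germ_eq X.presheaf r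
      obtain ⟨W₂, h₂, m, rfl⟩ := TopCat.Presheaf.exists_germ_eq F.presheaf v
      let V' : U.toScheme.Opens := U.ι ⁻¹ᵁ (W₁ ⊓ W₂) ⊓ V
      have hx' : x ∈ V' := ⟨⟨h₁, h₂⟩, hx⟩
      have hle : U.ι ''ᵁ V' ≤ W₁ ⊓ W₂ := by rintro _ ⟨z, hz, rfl⟩; exact hz.1
      have hy' : x.1 ∈ U.ι ''ᵁ V' := ⟨x, hx', rfl⟩
      rw [← X.presheaf.germ_res_apply (homOfLE (hle.trans inf_le_left)) x.1 hy' r,
        ← F.presheaf.germ_res_apply (homOfLE (hle.trans inf_le_right)) x.1 hy' m]
      generalize X.presheaf.map (homOfLE (hle.trans inf_le_left)).op r = r'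
      generalize F.presheaf.map (homOfLE (hle.trans inf_le_right)).op m = m'
      rw [← Mero.germ_smul]
      refine (key U F f x hx inf_le_right hx' hy' (H11Ample.ofImg U F (r' • m'))).trans ?_
      refine Eq.trans ?_ (congrArg (_ • ·) (key U F f x hx inf_le_right hx' hy' (H11Ample.ofImg U F m')).symm)
      rw [loc_smul, Mero.germ_smul]
    refine ⟨{ toFun := θ₀, map_add' := θ₀.map_add, map_smul' := hlin }, fun V' e hy m => ?_⟩
    obtain ⟨x', hx', hxx⟩ := id hy
    obtain rfl : x' = x := Subtype.ext hxx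
    exact key U F f x' hx e hx' hy m
  choose θ hθ using hθ
  have hloc : RefHull.IsLocSect F N θ := by
    intro W i m y
    obtain ⟨V', rfl⟩ : ∃ V' : U.toScheme.Opens, U.ι ''ᵁ V' = W :=
      ⟨_, image_preimage_of_le U (i.le.trans (U.ι_image_le V))⟩
    have e' : V' ≤ V := (U.ι.image_le_image_iff V' V).1 i.le
    exact ⟨_, y.2, 𝟙 _, H11Ample.toImg U N (loc U F f e' (H11Ample.ofImg U F m)),
      fun z => hθ ⟨z.1, i.le z.2⟩ V' e' z.2 (H11Ample.ofImg U F m)⟩
  refine ⟨H11Ample.ofImg U (RefHull.homSh F N) ⟨θ, hloc⟩, homSh_hom_ext fun V' e m => ?_⟩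
  rw [← H11Tilde.app_map_apply (restrictHomMap U F N), toLin_restrictHomMap]
  show _ = loc U F f e m
  refine eq_of_toImg (G := N) U ?_
  rw [toImg_ev_res, toImg_ofImg]
  refine sec_ext N fun y hy => ?_
  refine (germ_toLin _ _ (⟨y, hy⟩ : ↥(U.ι ''ᵁ V'))).trans ?_
  exact hθ ⟨y, U.ι.image_mono e hy⟩ V' e hy m

instance isIso_restrictHomMap (N : X.Modules) : IsIso (restrictHomMap U F N) :=
  isIso_of_bijective_basis _ (fun _ => True) (fun W _ hx => ⟨W, trivial, hx, le_rfl⟩)
    fun V _ => ⟨restrictHomMap_injective U F N V, restrictHomMap_surjective U F N V⟩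

theorem toLin_homFunctor_map {Y : Scheme.{u}} (G : Y.Modules) {M M' : Y.Modules} (g : M ⟶ M') (W : Y.Opens)
    (f : Γ(RefHull.homSh G M, W)) (m : Γ(G, W)) :
    toLin (((homFunctor G).map g).app W f) m = g.app W (toLin f m) :=
  sec_ext M' fun y hy => by
    refine (germ_toLin _ _ (⟨y, hy⟩ : W)).trans ?_
    refine (homFunctor_map_apply G g W f ⟨y, hy⟩ _).trans ?_
    rw [← germ_toLin f m (⟨y, hy⟩ : W)]
    exact stalkLin_germ g y W hy _

theorem restrictHomMap_natural {N N' : X.Modules} (g : N ⟶ N') :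
    (R).map ((homFunctor F).map g) ≫ restrictHomMap U F N' =
      restrictHomMap U F N ≫ (homFunctor (F.restrict U.ι)).map ((R).map g) := by
  refine Scheme.Modules.hom_ext _ _ fun V =>
    ConcreteCategory.hom_ext _ _ fun (n : Γ((RefHull.homSh F N).restrict U.ι, V)) => ?_
  refine homSh_hom_ext fun V' e m => ?_
  show toLin ((RefHull.homSh (F.restrict U.ι) (N'.restrict U.ι)).presheaf.map (homOfLE e).op
      ((restrictHomMap U F N').app V (((R).map ((homFunctor F).map g)).app V n))) m =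
    toLin ((RefHull.homSh (F.restrict U.ι) (N'.restrict U.ι)).presheaf.map (homOfLE e).op
      (((homFunctor (F.restrict U.ι)).map ((R).map g)).app V ((restrictHomMap U F N).app V n))) m
  rw [← H11Tilde.app_map_apply (restrictHomMap U F N'), toLin_restrictHomMap]
  refine Eq.trans ?_ (congrArg (fun f => toLin f m)
    (H11Tilde.app_map_apply ((homFunctor (F.restrict U.ι)).map ((R).map g)) e _))
  refine Eq.trans ?_ (toLin_homFunctor_map _ _ V' _ m).symm
  have h1 : toLin ((RefHull.homSh (F.restrict U.ι) (N.restrict U.ι)).presheaf.map (homOfLE e).op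
      ((restrictHomMap U F N).app V n)) m =
      ev U F N V' m (((RefHull.homSh F N).restrict U.ι).presheaf.map (homOfLE e).op n) := by
    rw [← H11Tilde.app_map_apply (restrictHomMap U F N), toLin_restrictHomMap]
  refine Eq.trans ?_ (congrArg (fun t => ((R).map g).app V' t) h1).symm
  refine eq_of_toImg (G := N') U ?_
  erw [toImg_map]
  rw [toImg_ev_res, toImg_ev_res]
  refine Eq.trans ?_ (toLin_homFunctor_map F g (U.ι ''ᵁ V') _ (H11Ample.toImg U F m))
  refine congrArg (fun f => toLin f (H11Ample.toImg U F m)) ?_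
  exact (congrArg _ (toImg_map U ((homFunctor F).map g) n)).trans
    (H11Tilde.app_map_apply ((homFunctor F).map g) (U.ι.image_mono e) (H11Ample.toImg U _ n)).symm

/-- `𝓗om(F, -)|_U ≅ 𝓗om(F|_U, -|_U)`. -/
noncomputable def homRestrictIso : homFunctor F ⋙ R ≅ R ⋙ homFunctor ((R).obj F) :=
  NatIso.ofComponents (fun N => @asIso _ _ _ _ (restrictHomMap U F N) (isIso_restrictHomMap U F N))
    fun g => restrictHomMap_natural U F g

theorem preservesMonomorphisms_extZero' : (CxOX.extZero U.ι).PreservesMonomorphisms := by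
  haveI := H16Derived.KFlat.Stalk.preservesFiniteLimits_extZero U
  infer_instance

theorem injective_restrict (I : X.Modules) [Injective I] : Injective ((R).obj I) := by
  haveI := preservesMonomorphisms_extZero' U
  exact Injective.injective_of_adjoint (CxOX.extZeroAdj U.ι) I

end Groth.Agent.H10Inj.SheafExt
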