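import Groth.Agent.H16Derived.SpFil.WeakSerre
import Mathlib.Algebra.Homology.ShortComplex.HomologicalComplex

/-!
# The abutment of a spectral sequence stays in a weak Serre class
-/

set_option autoImplicit false
set_option linter.style.haveILetI false
set_option backward.isDefEq.respectTransparency false

universe v u

open CategoryTheory CategoryTheory.Limits

namespace Groth.Agent.H10Inj.SheafExt

open Groth.Agent.H16Derived.SpFil.WeakSerre

variable {A : Type u} [Category.{v} A] [Abelian A] (P : ObjectProperty A) [P.IsClosedUnderIsomorphisms]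
  {r₀ : ℤ}

omit [P.IsClosedUnderIsomorphisms] in
/-- The homology of a complex in a weak Serre class is in the class. -/
theorem mem_homology {ι : Type*} {c : ComplexShape ι} (hC : Closed P) (K : HomologicalComplex A c)
    (h : ∀ i, P (K.X i)) (j : ι) : P (K.homology j) := by
  have hcyc : P (K.cycles j) :=
    hC.ker (K.iCycles j) (K.d j (c.next j)) (K.iCycles_d _ _) inferInstance
      (ShortComplex.exact_of_f_is_kernel _ (K.cyclesIsKernel j (c.next j) rfl)) (h _) (h _)
  exact hC.coker (K.toCycles (c.prev j) j) (K.homologyπ j) (K.toCycles_comp_homologyπ _ _) inferInstance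
    (ShortComplex.exact_of_g_is_cokernel _ (K.homologyIsCokernel (c.prev j) j rfl)) (h _) hcyc

/-- All pages stay in the class. -/
theorem mem_page (hC : Closed P) (E : CohomologicalSpectralSequence A r₀)
    (h : ∀ pq, P ((E.page r₀ le_rfl).X pq)) (r : ℤ) (hr : r₀ ≤ r) (pq : ℤ × ℤ) :
    P ((E.page r hr).X pq) := by
  induction r, hr using Int.leInduction generalizing pq with
  | base => exact h pq
  | succ r hr ih => exact P.prop_of_iso (E.iso r (r + 1) pq rfl hr) (mem_homology P hC _ ih pq)

/-- The abutment stays in the class. -/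
theorem mem_abutment (hC : Closed P) (E : CohomologicalSpectralSequence A r₀)
    (h : ∀ pq, P ((E.page r₀ le_rfl).X pq)) {H : ℤ → A} (a : SpSeq.Abutment E H) (n : ℤ)
    (ha : a.IsFinite n) : P (H n) := by
  refine mem_of_finite_fil hC (a.fil n) (a.anti n) (fun p => ?_) ha.1 ha.2
  have key : ∀ m : ℤ, m = n → P (SpSeq.subquot (a.fil m p) (a.fil m (p + 1))
      (a.anti m (Int.le_add_one le_rfl))) → P (SpSeq.subquot (a.fil n p) (a.fil n (p + 1))
      (a.anti n (Int.le_add_one le_rfl))) := by
    rintro m rfl hm
    exact hm
  exact key _ (show p + (n - p) = n by omega) (P.prop_of_iso (a.β (p, n - p)) (mem_page P hC E h _ _ _))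

end Groth.Agent.H10Inj.SheafExt
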