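import Groth.Agent.H10Inj.SheafExt.SSMem
import Groth.Agent.H16Derived.SpFil.Page
import Mathlib.Tactic.Linarith

/-!
# Weak Serre classes and the low degrees of the abutment of a spectral sequence
-/

set_option autoImplicit false
set_option linter.style.haveILetI false
set_option backward.isDefEq.respectTransparency false

universe v u

open CategoryTheory CategoryTheory.Limits

namespace Groth.Agent.H10Inj.SheafExt

open Groth.Agent.H16Derived.SpFil.WeakSerre

variable {A : Type u} [Category.{v} A] [Abelian A] (P : ObjectProperty A) [P.IsClosedUnderIsomorphisms]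

omit [P.IsClosedUnderIsomorphisms] in
/-- The homology at one position stays in a weak Serre class. -/
theorem mem_homology_at {ι : Type*} {c : ComplexShape ι} (hC : Closed P) (K : HomologicalComplex A c)
    (i j k : ι) (hij : c.prev j = i) (hjk : c.next j = k)
    (hi : P (K.X i)) (hj : P (K.X j)) (hk : P (K.X k)) : P (K.homology j) := by
  have hcyc : P (K.cycles j) :=
    hC.ker (K.iCycles j) (K.d j k) (K.iCycles_d _ _) inferInstance
      (ShortComplex.exact_of_f_is_kernel _ (K.cyclesIsKernel j k hjk)) hj hk
  exact hC.coker (K.toCycles i j) (K.homologyπ j) (K.toCycles_comp_homologyπ _ _) inferInstance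
    (ShortComplex.exact_of_g_is_cokernel _ (K.homologyIsCokernel i j hij)) hi hcyc

/-- If the rows up to `n` of the second page are in the class, then so is a range of every page. -/
theorem mem_page_le (hC : Closed P) (E : E₂CohomologicalSpectralSequence A) (n : ℤ)
    (hneg : ∀ a b : ℤ, a < 0 → IsZero ((E.page 2 le_rfl).X (a, b)))
    (h : ∀ a b : ℤ, b ≤ n → P ((E.page 2 le_rfl).X (a, b))) (r : ℤ) (hr : 2 ≤ r) (a b : ℤ)
    (hb : b ≤ n) (hab : b + (a + b - n - 1) * (r - 1) ≤ n) :
    P ((E.page r hr).X (a, b)) := by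
  induction r, hr using Int.leInduction generalizing a b with
  | base => exact h a b hb
  | succ r hr ih =>
    by_cases ha : a < 0
    · exact hC.zero _ (H16Derived.SpFil.isZero_page_of_le E 2 le_rfl _ (hneg a b ha) _ (by omega))
    refine P.prop_of_iso (E.iso r (r + 1) (a, b) rfl hr) (mem_homology_at P hC _ (a - r, b - (1 - r)) (a, b)
      (a + r, b + (1 - r)) ((ComplexShape.up' _).prev_eq' (by ext <;> simp))
      ((ComplexShape.up' _).next_eq' rfl) ?_ (ih a b hb ?_) (ih _ _ (by omega) ?_))
    · by_cases has : a - r < 0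
      · exact hC.zero _ (H16Derived.SpFil.isZero_page_of_le E 2 le_rfl _ (hneg _ _ has) _ hr)
      · refine ih _ _ ?_ ?_
        · rcases le_or_gt (a + b - n) 1 with hk | hk
          · omega
          · nlinarith
        · nlinarith
    · rcases le_or_gt (a + b - n - 1) 0 with hk | hk <;> nlinarith
    · rcases le_or_gt (a + b - n - 1) 0 with hk | hk <;> nlinarith

/-- The abutment in degrees up to `n` is in the class if the rows up to `n` of page 2 are. -/
theorem mem_abutment_le (hC : Closed P) (E : E₂CohomologicalSpectralSequence A) (n : ℤ)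
    (hneg : ∀ a b : ℤ, a < 0 → IsZero ((E.page 2 le_rfl).X (a, b)))
    (h : ∀ a b : ℤ, b ≤ n → P ((E.page 2 le_rfl).X (a, b)))
    {H : ℤ → A} (ab : SpSeq.Abutment E H) (i : ℤ) (hi : i ≤ n) (ha : ab.IsFinite i) : P (H i) := by
  refine mem_of_finite_fil hC (ab.fil i) (ab.anti i) (fun p => ?_) ha.1 ha.2
  have key : ∀ m : ℤ, m = i → P (SpSeq.subquot (ab.fil m p) (ab.fil m (p + 1))
      (ab.anti m (Int.le_add_one le_rfl))) → P (SpSeq.subquot (ab.fil i p) (ab.fil i (p + 1))
      (ab.anti i (Int.le_add_one le_rfl))) := by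
    rintro m rfl hm
    exact hm
  refine key _ (show p + (i - p) = i by omega) (P.prop_of_iso (ab.β (p, i - p)) ?_)
  have hr := (ab.stat (p, i - p)).1
  rcases lt_or_ge p 0 with hp | hp
  · exact hC.zero _ (H16Derived.SpFil.isZero_page_of_le E 2 le_rfl _ (hneg _ _ hp) _ hr)
  · exact mem_page_le P hC E n hneg h _ hr _ _ (by omega) (by nlinarith)

end Groth.Agent.H10Inj.SheafExt
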