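import Groth.Agent.H10Inj.SheafExt.Transport
import Groth.Agent.H10Inj.SheafExt.HomFunctor
import Groth.Agent.H10Inj.StalkInjective
import Groth.Agent.H10Coh.FinType2
import Groth.Agent.H10Inj.SheafExt.Spec
import Mathlib.Topology.Sheaves.Points

/-!
# Stalks of Ext sheaves
-/

set_option autoImplicit false
set_option backward.isDefEq.respectTransparency false
set_option linter.style.haveILetI false

universe u

open CategoryTheory CategoryTheory.Limits AlgebraicGeometry TopologicalSpace Opposite Abelian

namespace Groth.Agent.H10Inj.SheafExt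

open Groth.Agent.H06Mod

variable {X : Scheme.{u}} (x : X)

local notation "pt" => Opens.pointGrothendieckTopology x

/-- Comparison of the fibre at the point of the site with the stalk. -/
noncomputable def fibreToStalk {A : Type (u + 1)} [Category.{u} A] [HasColimitsOfSize.{u, u} A]
    (P : TopCat.Presheaf A X) : (pt).presheafFiber.obj P ⟶ P.stalk x :=
  (pt).presheafFiberDesc (fun U h => P.germ U x h.down.down) fun U V i h => P.germ_res i x h.down.down

theorem fibreToStalk_germ_ring (U : X.Opens) (h : (pt).fiber.obj U) (r : Γ(X, U)) :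
    fibreToStalk x X.presheaf ((pt).toPresheafFiber U h X.presheaf r) =
      X.presheaf.germ U x h.down.down r := by
  exact ConcreteCategory.congr_hom ((pt).toPresheafFiber_presheafFiberDesc (P := X.presheaf)
    (fun V hV => X.presheaf.germ V x hV.down.down) (fun V W i hV => X.presheaf.germ_res i x hV.down.down) U h) r

theorem fibreToStalk_germ_mod (N : X.Modules) (U : X.Opens) (h : (pt).fiber.obj U) (s : Γ(N, U)) :
    fibreToStalk x N.presheaf ((pt).toPresheafFiber U h N.presheaf s) =
      N.presheaf.germ U x h.down.down s := by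
  exact ConcreteCategory.congr_hom ((pt).toPresheafFiber_presheafFiberDesc (P := N.presheaf)
    (fun V hV => N.presheaf.germ V x hV.down.down) (fun V W i hV => N.presheaf.germ_res i x hV.down.down) U h) s

theorem bijective_ring : Function.Bijective (fibreToStalk x X.presheaf) := by
  constructor
  · intro a b hab
    obtain ⟨U, h, r, s, rfl, rfl⟩ := (pt).toPresheafFiber_jointly_surjective₂ a b
    rw [fibreToStalk_germ_ring, fibreToStalk_germ_ring] at hab
    obtain ⟨W, hW, i₁, i₂, he⟩ := TopCat.Presheaf.germ_eq X.presheaf x _ _ r s hab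
    rw [(pt).toPresheafFiber_eq_iff']
    refine ⟨W, i₁, ⟨⟨hW⟩⟩, Subsingleton.elim _ _, ?_⟩
    rw [he, Subsingleton.elim i₂ i₁]
  · intro a
    obtain ⟨U, h, r, rfl⟩ := X.presheaf.exists_germ_eq a
    exact ⟨(pt).toPresheafFiber U ⟨⟨h⟩⟩ X.presheaf r, fibreToStalk_germ_ring x U ⟨⟨h⟩⟩ r⟩

theorem bijective_mod (N : X.Modules) : Function.Bijective (fibreToStalk x N.presheaf) := by
  constructor
  · intro a b hab
    obtain ⟨U, h, r, s, rfl, rfl⟩ := (pt).toPresheafFiber_jointly_surjective₂ a b
    rw [fibreToStalk_germ_mod, fibreToStalk_germ_mod] at hab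
    obtain ⟨W, hW, i₁, i₂, he⟩ := TopCat.Presheaf.germ_eq N.presheaf x _ _ r s hab
    rw [(pt).toPresheafFiber_eq_iff']
    refine ⟨W, i₁, ⟨⟨hW⟩⟩, Subsingleton.elim _ _, ?_⟩
    rw [he, Subsingleton.elim i₂ i₁]
  · intro a
    obtain ⟨U, h, r, rfl⟩ := N.presheaf.exists_germ_eq a
    exact ⟨(pt).toPresheafFiber U ⟨⟨h⟩⟩ N.presheaf r, fibreToStalk_germ_mod x N U ⟨⟨h⟩⟩ r⟩

/-- The ring of the point of the site is the local ring. -/
noncomputable def pointRingEquiv : ModSite.stalkRing (pt) X.sheaf ≃+* X.presheaf.stalk x :=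
  RingEquiv.ofBijective (fibreToStalk x X.presheaf).hom (bijective_ring x)

/-- The module at the point of the site is the stalk. -/
noncomputable def pointModEquiv (N : X.Modules) :
    ModSite.stalkMod (O := X.sheaf) (pt) N ≃ₗ[ModSite.stalkRing (pt) X.sheaf]
      (ModuleCat.restrictScalars (pointRingEquiv x).toRingHom).obj ((DerSch.stalkFunctor X x).obj N) where
  toFun := fibreToStalk x N.presheaf
  map_add' := map_add (fibreToStalk x N.presheaf).hom
  invFun := (Equiv.ofBijective _ (bijective_mod x N)).symm
  left_inv := (Equiv.ofBijective _ (bijective_mod x N)).symm_apply_apply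
  right_inv := (Equiv.ofBijective _ (bijective_mod x N)).apply_symm_apply
  map_smul' r v := by
    obtain ⟨U, h, s, rfl⟩ := (pt).toPresheafFiber_jointly_surjective (P := X.presheaf) r
    obtain ⟨V, h', t, rfl⟩ := (pt).toPresheafFiber_jointly_surjective (P := N.presheaf) v
    let W := U ⊓ V
    let hW : (pt).fiber.obj W := ⟨⟨⟨h.down.down, h'.down.down⟩⟩⟩
    have e1 : (pt).toPresheafFiber U h X.presheaf s =
        (pt).toPresheafFiber W hW X.presheaf (X.presheaf.map (homOfLE inf_le_left).op s) :=
      ((pt).toPresheafFiber_w_apply (homOfLE (inf_le_left : W ≤ U)) hW X.presheaf s).symm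
    have e2 : (pt).toPresheafFiber V h' N.presheaf t =
        (pt).toPresheafFiber W hW N.presheaf (N.presheaf.map (homOfLE inf_le_right).op t) :=
      ((pt).toPresheafFiber_w_apply (homOfLE (inf_le_right : W ≤ V)) hW N.presheaf t).symm
    rw [e1, e2]
    let s' : Γ(X, W) := X.presheaf.map (homOfLE inf_le_left).op s
    let t' : Γ(N, W) := N.presheaf.map (homOfLE inf_le_right).op t
    refine (congrArg (fibreToStalk x N.presheaf) (ModSite.germ_smul (pt) (O := X.sheaf) N W hW s' t').symm).trans ?_
    refine (fibreToStalk_germ_mod x N W hW (s' • t')).trans ?_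
    rw [H06Mod.germ_smul]
    show _ = fibreToStalk x X.presheaf ((pt).toPresheafFiber W hW X.presheaf s') •
      fibreToStalk x N.presheaf ((pt).toPresheafFiber W hW N.presheaf t')
    rw [fibreToStalk_germ_ring, fibreToStalk_germ_mod]

variable (F : X.Modules)

/-- Stalks of `𝓗om(F, N)` are the linear maps of stalks. -/
noncomputable def homStalkEquiv (hF : CohB1.IsFP F) (N : X.Modules) :
    (DerSch.stalkFunctor X x).obj ((homFunctor F).obj N) ≃ₗ[X.presheaf.stalk x]
      ((DerSch.stalkFunctor X x).obj F ⟶ (DerSch.stalkFunctor X x).obj N) :=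
  (LinearEquiv.ofBijective (RefHull.evalStalk F N x) (H29Ref.evalStalk_bijective F N hF x)).trans
    (ModuleCat.homLinearEquiv (S := X.presheaf.stalk x) (M := (DerSch.stalkFunctor X x).obj F)
      (N := (DerSch.stalkFunctor X x).obj N)).symm

attribute [local instance 10000] H10Coh.hasSheafifyAb H10Coh.hasWeakSheafifyAb H10Coh.hasExtAb H10Coh.enoughInjAb

/-- Stalks of Ext sheaves out of coherent modules. -/
theorem nonempty_stalk_rightDerived [IsLocallyNoetherian X] [HasInjectiveResolutions X.Modules]
    (hF : Coh.IsCoh F) (i : ℕ) (N : X.Modules) :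
    Nonempty (ModSite.stalkMod (O := X.sheaf) (pt) (((homFunctor F).rightDerived i).obj N)
      ≃ₗ[ModSite.stalkRing (pt) X.sheaf]
      Ext (ModSite.stalkMod (O := X.sheaf) (pt) F) (ModSite.stalkMod (O := X.sheaf) (pt) N) i) := by
  let S := DerSch.stalkFunctor X x
  have hFP := H10Coh.isFP_of_isCoh F hF
  have h := nonempty_rightDerived_ext' (homFunctor F) (pointRingEquiv x) S S (S.obj F) (fun _ => True)
    (fun _ _ => trivial) (fun N _ => ?_) (fun N _ => homStalkEquiv x F hFP N) (fun M M' _ _ g v => ?_) i N trivial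
  · obtain ⟨e⟩ := h
    exact ⟨((pointModEquiv x _).trans e).trans
      (extCongr (pointModEquiv x F).toModuleIso (pointModEquiv x N).toModuleIso.symm i)⟩
  · let T := ShortComplex.mk (Injective.ι N) (cokernel.π (Injective.ι N)) (cokernel.condition _)
    have hT : T.ShortExact := ShortComplex.ShortExact.mk' (ShortComplex.exact_cokernel _) inferInstance inferInstance
    haveI : Module.Injective (X.presheaf.stalk x) ((Injective.under N).presheaf.stalk x) :=
      injective_stalk (Injective.under N) x
    exact ⟨T, hT, ⟨Iso.refl _⟩, inferInstanceAs (Injective (Injective.under N)), trivial, trivial,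
      hT.map_of_exact S,
      Module.injective_object_of_injective_module (X.presheaf.stalk x) ((Injective.under N).presheaf.stalk x),
      ⟨PreservesCokernel.iso S _⟩⟩
  · refine ModuleCat.hom_ext (LinearMap.ext fun (m : F.presheaf.stalk x) => ?_)
    obtain ⟨V, hV, f, rfl⟩ := (RefHull.homSh F M).presheaf.exists_germ_eq v
    show RefHull.evalStalk F M' x (stalkLin ((homFunctor F).map g) x ((RefHull.homSh F M).presheaf.germ V x hV f)) m =
      stalkLin g x (RefHull.evalStalk F M x ((RefHull.homSh F M).presheaf.germ V x hV f) m)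
    erw [stalkLin_germ]
    refine (LinearMap.congr_fun (RefHull.evalAdd_germ F M' x hV _) m).trans ?_
    refine (homFunctor_map_apply F g V f ⟨x, hV⟩ m).trans ?_
    exact congrArg (stalkLin g x) (LinearMap.congr_fun (RefHull.evalAdd_germ F M x hV f) m).symm

end Groth.Agent.H10Inj.SheafExt
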