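import Groth.Agent.H4Gr.InjDim
import Groth.Agent.H4Depth.IdealDepth
import Groth.Agent.H05EGA4.Regular
import Mathlib.RingTheory.Filtration
import Mathlib.RingTheory.Ideal.AssociatedPrime.Finiteness

/-!
# Ext of finite modules with prescribed support, and homomorphisms killed by powers of an ideal
-/

set_option autoImplicit false
set_option linter.unusedSectionVars false
set_option linter.style.haveILetI false

universe u

open CategoryTheory

namespace Groth.Agent.H10Inj.SheafExt

variable {R : Type u} [CommRing R] [IsNoetherianRing R]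

/-- Vanishing of Bass numbers on a closed set kills `Ext` out of cyclic modules supported there. -/
theorem subsingleton_ext_quot_of_bassNum (M : Type u) [AddCommGroup M] [Module R M] (i : ℕ)
    (I₀ : Ideal R) (h : ∀ (p : Ideal R) [p.IsPrime], I₀ ≤ p → GrLC.bassNum p M i = 0) (I : Ideal R)
    (hI₀ : I₀ ≤ I) :
    Subsingleton (Abelian.Ext.{u} (ModuleCat.of R (R ⧸ I)) (ModuleCat.of R M) i) := by
  induction I using WellFoundedGT.induction with
  | _ I ih =>
  by_cases hI : I = ⊤
  · exact Groth.Agent.H4Depth.subsingleton_ext_of_annihilator_sup_eq_top (by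
      rw [Ideal.annihilator_quotient, hI, top_sup_eq]) i
  -- multiplication by `x ∉ I` on `R ⧸ (I : x) → R ⧸ I`
  have seq : ∀ x, x ∉ I → ∀ J : Ideal R, (∀ a, a ∈ J ↔ a * x ∈ I) →
      ∀ e : Abelian.Ext.{u} (ModuleCat.of R (R ⧸ I)) (ModuleCat.of R M) i,
        ∀ (f : (R ⧸ J) →ₗ[R] (R ⧸ I)), (∀ a, f (Ideal.Quotient.mk J a) = Ideal.Quotient.mk I (a * x)) →
          (Abelian.Ext.mk₀ (ModuleCat.ofHom f)).comp e (zero_add i) = 0 → e = 0 := by
    intro x hx J hJ e f hf he
    have hfi : Function.Injective f := (injective_iff_map_eq_zero _).2 fun y hy => by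
      obtain ⟨a, rfl⟩ := Ideal.Quotient.mk_surjective y
      rw [hf, Ideal.Quotient.eq_zero_iff_mem] at hy
      exact Ideal.Quotient.eq_zero_iff_mem.2 ((hJ a).2 hy)
    let g : (R ⧸ I) →ₗ[R] (R ⧸ (I ⊔ Ideal.span {x})) := Submodule.factor le_sup_left
    have hgs : Function.Surjective g := Submodule.factor_surjective _
    have hfg : Function.Exact f g := fun y => by
      obtain ⟨b, rfl⟩ := Ideal.Quotient.mk_surjective y
      constructor
      · intro hb
        have hb' : b ∈ I ⊔ Ideal.span {x} := Ideal.Quotient.eq_zero_iff_mem.1 hb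
        obtain ⟨u, hu, v, hv, rfl⟩ := Submodule.mem_sup.1 hb'
        obtain ⟨a, rfl⟩ := Ideal.mem_span_singleton'.1 hv
        exact ⟨Ideal.Quotient.mk J a, by rw [hf, map_add, Ideal.Quotient.eq_zero_iff_mem.2 hu, zero_add]⟩
      · rintro ⟨z, hz⟩
        obtain ⟨a, rfl⟩ := Ideal.Quotient.mk_surjective z
        rw [hf] at hz
        rw [← hz]
        exact Ideal.Quotient.eq_zero_iff_mem.2
          (Submodule.mem_sup_right (Ideal.mul_mem_left _ a (Ideal.mem_span_singleton_self x)))
    haveI := ih (I ⊔ Ideal.span {x}) (left_lt_sup.2 fun hle => hx (hle (Ideal.mem_span_singleton_self x)))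
      (hI₀.trans le_sup_left)
    obtain ⟨w, hw⟩ := Abelian.Ext.contravariant_sequence_exact₂
      (Groth.Agent.H4Depth.shortComplexOf_shortExact f g hfi hgs hfg) _ e he
    rw [← hw, show w = 0 from @Subsingleton.elim _ this _ _]
    exact Abelian.Ext.comp_zero _ _ _ _ _
  by_cases hP : I.IsPrime
  · refine subsingleton_of_forall_eq 0 fun e => ?_
    obtain ⟨s, hs, hse⟩ := (H4Gr.bassNum_eq_zero_iff I M i).1 (h I hI₀) e
    refine seq s hs I (fun a => ⟨fun ha => I.mul_mem_right _ ha, fun ha => (hP.mem_or_mem ha).resolve_right hs⟩) e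
      (s • LinearMap.id) (fun a => by
        show Ideal.Quotient.mk I (s * a) = _
        rw [mul_comm]) ?_
    rw [show ModuleCat.ofHom (s • (LinearMap.id : (R ⧸ I) →ₗ[R] (R ⧸ I))) =
      s • 𝟙 (ModuleCat.of R (R ⧸ I)) from rfl, Abelian.Ext.mk₀_smul, Abelian.Ext.smul_comp,
      Abelian.Ext.mk₀_id_comp]
    exact hse
  · rw [Ideal.isPrime_iff] at hP
    push Not at hP
    obtain ⟨x, y, hxy, hx, hy⟩ := hP hI
    let J : Ideal R := Submodule.comap (LinearMap.toSpanSingleton R R y) I
    have hJ : ∀ a, a ∈ J ↔ a * y ∈ I := fun a => Iff.rfl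
    have hlt : I < J := lt_of_le_of_ne (fun a ha => (hJ a).2 (I.mul_mem_right _ ha))
      fun hIJ => hx (hIJ ▸ (hJ x).2 hxy)
    haveI := ih J hlt (hI₀.trans hlt.le)
    let f : (R ⧸ J) →ₗ[R] (R ⧸ I) := Submodule.mapQ J I (LinearMap.toSpanSingleton R R y) le_rfl
    refine subsingleton_of_forall_eq 0 fun e => seq y hy J hJ e f (fun a => rfl) ?_
    exact Subsingleton.elim _ _

/-- Vanishing of Bass numbers on the support kills `Ext`. -/
theorem subsingleton_ext_of_support (N : Type u) [AddCommGroup N] [Module R N] (i : ℕ) (L : Type u)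
    [AddCommGroup L] [Module R L] [Module.Finite R L]
    (h : ∀ q : PrimeSpectrum R, q ∈ Module.support R L → GrLC.bassNum q.asIdeal N i = 0) :
    Subsingleton (Abelian.Ext.{u} (ModuleCat.of R L) (ModuleCat.of R N) i) := by
  refine IsNoetherianRing.induction_on_isQuotientEquivQuotientPrime R (M := L) inferInstance
    (motive := fun P _ _ _ => (∀ q ∈ Module.support R P, GrLC.bassNum q.asIdeal N i = 0) →
      Subsingleton (Abelian.Ext.{u} (ModuleCat.of R P) (ModuleCat.of R N) i)) ?_ ?_ ?_ h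
  · intro P _ _ _ hP _
    exact Groth.Agent.H4Depth.subsingleton_ext_of_annihilator_sup_eq_top (by
      rw [Module.annihilator_eq_top_iff.2 hP, top_sup_eq]) i
  · intro P _ _ _ p e hp
    haveI := subsingleton_ext_quot_of_bassNum N i p.asIdeal (fun q hq hle => hp ⟨q, hq⟩ (by
      rw [e.support_eq, Module.support_eq_zeroLocus, Ideal.annihilator_quotient]
      exact hle)) p.asIdeal le_rfl
    refine subsingleton_of_forall_eq 0 fun x => ?_
    have h1 : (Abelian.Ext.mk₀ e.toModuleIso.hom).comp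
        ((Abelian.Ext.mk₀ e.toModuleIso.inv).comp x (zero_add i)) (zero_add i) = x := by
      rw [← Abelian.Ext.comp_assoc_of_second_deg_zero, Abelian.Ext.mk₀_comp_mk₀, Iso.hom_inv_id,
        Abelian.Ext.mk₀_id_comp]
    rw [← h1, show (Abelian.Ext.mk₀ e.toModuleIso.inv).comp x (zero_add i) = 0 from Subsingleton.elim _ _,
      Abelian.Ext.comp_zero]
  · intro N₁ _ _ _ N₂ _ _ _ N₃ _ _ _ f g hf hg hfg h₁ h₃ hP
    have hs := Module.support_of_exact hfg hf hg
    refine subsingleton_of_forall_eq 0 fun x => ?_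
    obtain ⟨w, hw⟩ := Abelian.Ext.contravariant_sequence_exact₂
      (Groth.Agent.H4Depth.shortComplexOf_shortExact f g hf hg hfg) _ x
      (@Subsingleton.elim _ (h₁ fun q hq => hP q (hs.symm ▸ Or.inl hq)) _ _)
    rw [← hw, show w = 0 from @Subsingleton.elim _ (h₃ fun q hq => hP q (hs.symm ▸ Or.inr hq)) _ _]
    exact Abelian.Ext.comp_zero _ _ _ _ _

/-- Bass numbers vanish below the depth. -/
theorem bassNum_eq_zero_of_lt_depth (p : Ideal R) [p.IsPrime] (N : Type u) [AddCommGroup N] [Module R N]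
    [Module.Finite R N] (i : ℕ)
    (h : (i : ℕ∞) < LocCoh.depth (Localization.AtPrime p) (LocalizedModule p.primeCompl N)) :
    GrLC.bassNum p N i = 0 := by
  haveI : Module.Finite (Localization.AtPrime p) (LocalizedModule p.primeCompl N) :=
    Module.Finite.of_isLocalizedModule p.primeCompl (LocalizedModule.mkLinearMap _ _)
  rw [GrLC.bassNum, GrLC.bassNumLocal, Module.length_eq_zero_iff]
  have h' : ((i + 1 : ℕ) : ℕ∞) ≤ LocCoh.idealDepth (IsLocalRing.maximalIdeal (Localization.AtPrime p))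
      (LocalizedModule p.primeCompl N) := by
    push_cast
    exact Order.add_one_le_of_lt h
  exact Groth.Agent.H4Depth.le_idealDepth_iff_ext.1 h' i (Nat.lt_succ_self i)

/-- Bass numbers vanish above the dimension at regular points. -/
theorem bassNum_eq_zero_of_dim_lt (p : Ideal R) [p.IsPrime] [IsRegularLocalRing (Localization.AtPrime p)]
    (N : Type u) [AddCommGroup N] [Module R N] (i : ℕ)
    (h : ringKrullDim (Localization.AtPrime p) < (i : WithBot ℕ∞)) : GrLC.bassNum p N i = 0 := by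
  obtain ⟨d, hd, hk⟩ := H05EGA4.exists_pd_residueField (Localization.AtPrime p)
  rw [hd] at h
  have h' : d + 1 ≤ i := by exact_mod_cast h
  rw [GrLC.bassNum, GrLC.bassNumLocal, Module.length_eq_zero_iff]
  exact HasProjectiveDimensionLT.subsingleton (ModuleCat.of _ (IsLocalRing.ResidueField (Localization.AtPrime p)))
    (d + 1) i h' _

section Killed

variable (I : Ideal R) (M : Type u) [AddCommGroup M] [Module R M]

/-- Elements killed by a power of the ideal. -/
def powTorsion : Submodule R M where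
  carrier := {m | ∃ k : ℕ, ∀ a ∈ I ^ k, a • m = 0}
  zero_mem' := ⟨0, fun a _ => smul_zero a⟩
  add_mem' := by
    rintro x y ⟨k, hk⟩ ⟨l, hl⟩
    exact ⟨k + l, fun a ha => by
      rw [smul_add, hk a (Ideal.pow_le_pow_right (Nat.le_add_right k l) ha),
        hl a (Ideal.pow_le_pow_right (Nat.le_add_left l k) ha), add_zero]⟩
  smul_mem' := by
    rintro c x ⟨k, hk⟩
    exact ⟨k, fun a ha => by rw [smul_comm, hk a ha, smul_zero]⟩

theorem mem_powTorsion {m : M} : m ∈ powTorsion I M ↔ ∃ k : ℕ, ∀ a ∈ I ^ k, a • m = 0 := Iff.rfl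

theorem exists_pow_kills [Module.Finite R M] (K : Submodule R M) (hK : K ≤ powTorsion I M) :
    ∃ m : ℕ, ∀ a ∈ I ^ m, ∀ x ∈ K, a • x = 0 := by
  have hfg : K.FG := IsNoetherian.noetherian K

  revert hK
  refine Submodule.fg_induction (R := R) (M := M) (motive := fun K _ => K ≤ powTorsion I M → ∃ m : ℕ, ∀ a ∈ I ^ m, ∀ x ∈ K, a • x = 0)
    (fun x hx => ?_) (fun K₁ K₂ _ _ h₁ h₂ hle => ?_) K hfg
  · obtain ⟨k, hk⟩ := hx (Submodule.mem_span_singleton_self x)
    refine ⟨k, fun a ha y hy => ?_⟩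
    obtain ⟨c, rfl⟩ := Submodule.mem_span_singleton.1 hy
    rw [smul_comm, hk a ha, smul_zero]
  · obtain ⟨k, hk⟩ := h₁ (le_sup_left.trans hle)
    obtain ⟨l, hl⟩ := h₂ (le_sup_right.trans hle)
    refine ⟨k + l, fun a ha x hx => ?_⟩
    obtain ⟨y, hy, z, hz, rfl⟩ := Submodule.mem_sup.1 hx
    rw [smul_add, hk a (Ideal.pow_le_pow_right (Nat.le_add_right k l) ha) y hy,
      hl a (Ideal.pow_le_pow_right (Nat.le_add_left l k) ha) z hz, add_zero]

variable {M} (K : Submodule R M)

/-- The quotient by the submodule and a power of the ideal. -/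
abbrev Lq (k : ℕ) : Type u := M ⧸ (K ⊔ I ^ k • (⊤ : Submodule R M))

theorem support_Lq [Module.Finite R M] {k : ℕ} {q : PrimeSpectrum R} (hq : q ∈ Module.support R (Lq I K k)) :
    q ∈ Module.support R (M ⧸ K) ∧ I ≤ q.asIdeal := by
  let π : (M ⧸ K) →ₗ[R] Lq I K k := Submodule.factor le_sup_left
  refine ⟨Module.support_subset_of_surjective π (Submodule.factor_surjective _) hq, ?_⟩
  rw [Module.support_eq_zeroLocus] at hq
  refine q.2.le_of_pow_le (n := k) (fun a ha => hq ?_)
  refine Module.mem_annihilator.2 fun x => ?_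
  obtain ⟨x, rfl⟩ := Submodule.Quotient.mk_surjective _ x
  rw [← Submodule.Quotient.mk_smul, Submodule.Quotient.mk_eq_zero]
  exact Submodule.mem_sup_right (Submodule.smul_mem_smul ha Submodule.mem_top)

/-- Outside the ideal, the quotient by the torsion lives on the closure of the support off `V(I)`. -/
theorem exists_of_mem_support_quot_powTorsion [Module.Finite R M] {q : PrimeSpectrum R}
    (hq : q ∈ Module.support R (M ⧸ powTorsion I M)) {a : R} (ha : a ∉ q.asIdeal) :
    ∃ p : PrimeSpectrum R, p ∈ Module.support R M ∧ a ∉ p.asIdeal ∧ ¬ I ≤ p.asIdeal := by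
  by_contra hne
  push Not at hne
  rw [Module.support_eq_zeroLocus] at hq
  have hle : Ideal.span {a} * I ≤ (Module.annihilator R M).radical := by
    rw [Ideal.radical_eq_sInf]
    refine le_sInf fun P hP => ?_
    obtain ⟨hP1, hP2⟩ := hP
    by_cases haP : a ∈ P
    · exact Ideal.mul_le_left.trans ((Ideal.span_singleton_le_iff_mem _).2 haP)
    · refine Ideal.mul_le_right.trans (hne ⟨P, hP2⟩ ?_ haP)
      rw [Module.support_eq_zeroLocus]
      exact hP1
  obtain ⟨n, hn⟩ := Ideal.exists_pow_le_of_le_radical_of_fg hle (IsNoetherian.noetherian _)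
  rw [mul_pow, Ideal.span_singleton_pow] at hn
  refine ha (q.2.mem_of_pow_mem n (hq (Module.mem_annihilator.2 fun x => ?_)))
  obtain ⟨x, rfl⟩ := Submodule.Quotient.mk_surjective _ x
  rw [← Submodule.Quotient.mk_smul, Submodule.Quotient.mk_eq_zero]
  refine ⟨n, fun b hb => ?_⟩
  rw [smul_smul, mul_comm]
  exact Module.mem_annihilator.1 (hn (Ideal.mul_mem_mul (Ideal.mem_span_singleton_self _) hb)) x

variable {E Q : Type u} [AddCommGroup E] [Module R E] [AddCommGroup Q] [Module R Q]

/-- A map killed by a power of the ideal and vanishing on `K` factors through the quotient. -/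
theorem exists_factor_Lq (f : M →ₗ[R] Q) (hf : f ∈ powTorsion I (M →ₗ[R] Q)) (hfK : ∀ x ∈ K, f x = 0) :
    ∃ (k : ℕ) (g : Lq I K k →ₗ[R] Q), g.comp (Submodule.mkQ _) = f := by
  obtain ⟨k, hk⟩ := hf
  refine ⟨k, Submodule.liftQ _ f (sup_le hfK (Submodule.smul_le.2 fun a ha x _ => ?_)), Submodule.liftQ_mkQ _ _ _⟩
  show f (a • x) = 0
  rw [map_smul, ← LinearMap.smul_apply, hk a ha, LinearMap.zero_apply]

/-- A map out of the quotient gives a map killed by a power of the ideal. -/
theorem comp_mkQ_mem {k : ℕ} (g : Lq I K k →ₗ[R] Q) :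
    g.comp (Submodule.mkQ _) ∈ powTorsion I (M →ₗ[R] Q) :=
  ⟨k, fun a ha => LinearMap.ext fun x => by
    rw [LinearMap.smul_apply, LinearMap.comp_apply, ← map_smul, ← map_smul, Submodule.mkQ_apply,
      (Submodule.Quotient.mk_eq_zero _).2 (Submodule.mem_sup_right (Submodule.smul_mem_smul ha Submodule.mem_top)),
      map_zero, LinearMap.zero_apply]⟩

/-- Maps on a torsion submodule into an injective module extend to maps killed by a power of the ideal. -/
theorem exists_extend [Module.Finite R M] (hK : K ≤ powTorsion I M) [Module.Injective R E] (g : K →ₗ[R] E) :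
    ∃ f ∈ powTorsion I (M →ₗ[R] E), f.comp K.subtype = g := by
  obtain ⟨m, hm⟩ := exists_pow_kills I M K hK
  obtain ⟨c, hc⟩ := Ideal.exists_pow_inf_eq_pow_smul I K
  let T : Submodule R M := I ^ (c + m) • ⊤
  have hT : ∀ x ∈ K, x ∈ T → x = 0 := fun x hxK hxT => by
    have h1 : x ∈ I ^ (c + m) • (⊤ : Submodule R M) ⊓ K := ⟨hxT, hxK⟩
    rw [hc (c + m) (Nat.le_add_right c m), Nat.add_sub_cancel_left] at h1
    have h2 : I ^ m • (I ^ c • (⊤ : Submodule R M) ⊓ K) ≤ ⊥ := Submodule.smul_le.2 fun a ha y hy => by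
      rw [Submodule.mem_bot]; exact hm a ha y hy.2
    exact (Submodule.mem_bot R).1 (h2 h1)
  let j : K →ₗ[R] M ⧸ T := T.mkQ.comp K.subtype
  have hj : Function.Injective j := (injective_iff_map_eq_zero _).2 fun x hx =>
    Subtype.ext (hT x.1 x.2 ((Submodule.Quotient.mk_eq_zero _).1 hx))
  obtain ⟨h, hh⟩ := Module.Injective.out j hj g
  refine ⟨h.comp T.mkQ, ⟨c + m, fun a ha => LinearMap.ext fun x => ?_⟩, LinearMap.ext hh⟩
  rw [LinearMap.smul_apply, LinearMap.comp_apply, ← map_smul, ← map_smul, Submodule.mkQ_apply,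
    (Submodule.Quotient.mk_eq_zero _).2 (Submodule.smul_mem_smul ha Submodule.mem_top), map_zero,
    LinearMap.zero_apply]

end Killed

end Groth.Agent.H10Inj.SheafExt
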