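import Groth.Agent.H10Inj.SheafExt.ZVanish

/-!
# Vanishing and coherence of Ext sheaves with supports
-/

set_option autoImplicit false
set_option backward.isDefEq.respectTransparency false
set_option linter.style.haveILetI false
set_option linter.unusedSectionVars false

universe u

open CategoryTheory CategoryTheory.Limits AlgebraicGeometry TopologicalSpace Opposite Abelian

namespace Groth.Agent.H10Inj.SheafExt

variable {X : Scheme.{u}} [IsLocallyNoetherian X]

attribute [local instance 10000] H10Coh.hasSheafifyAb H10Coh.hasWeakSheafifyAb H10Coh.hasExtAb H10Coh.enoughInjAb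

/-- The Ext sheaves with supports of the site are the derived functors of `Γ_Z 𝓗om(F, -)`. -/
noncomputable def extZShIso (U : X.Opens) [ModSite.HasPushOver X.sheaf U] (F : X.Modules)
    [ModSite.HasSheafHom (O := X.sheaf) F] [HasInjectiveResolutions (ModSite.Mod X.sheaf)]
    (i : ℕ) (G : X.Modules) :
    (ModSite.extZSh (O := X.sheaf) U F i).obj G ≅
      (haveI : HasInjectiveResolutions X.Modules := ‹HasInjectiveResolutions (ModSite.Mod X.sheaf)›
      ((phi U F).rightDerived i).obj G) :=
  haveI : Functor.Additive (C := ModSite.Mod X.sheaf) (D := ModSite.Mod X.sheaf) (phi U F) :=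
    (inferInstance : (phi U F).Additive)
  haveI : (ModSite.sheafHom (O := X.sheaf) F ⋙ ModSite.sectOn X.sheaf U).Additive := inferInstance
  (H02CA.ModLocalise.rdMapIso (A := ModSite.Mod X.sheaf)
    (F := ModSite.sheafHom (O := X.sheaf) F ⋙ ModSite.sectOn X.sheaf U)
    (Functor.isoWhiskerRight (modSiteHomIso F) _ ≪≫ Functor.isoWhiskerLeft (homFunctor F) (sectOnNatIso U)) i).app G

/-- The `n`-th Bass number of `G` vanishes at `z`. -/
def BassZero (n : ℕ) (G : X.Modules) (z : X) : Prop :=
  ∀ (V : X.Opens) (hV : IsAffineOpen V) (hz : z ∈ V),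
    GrLC.bassNum (hV.primeIdealOf ⟨z, hz⟩).asIdeal Γ(G, V) n = 0

theorem bassZero_of_lt_depth {n : ℕ} {G : X.Modules} (hG : Coh.IsCoh G) {z : X}
    (h : (n : ℕ∞) < LocCoh.depth (X.presheaf.stalk z) (G.presheaf.stalk z)) : BassZero n G z := by
  intro V hV hz
  haveI : IsNoetherianRing Γ(X, V) := IsLocallyNoetherian.component_noetherian ⟨V, hV⟩
  haveI : Module.Finite Γ(X, V) Γ(G, V) := @H10Coh.finite_sections _ G hG.1 hG.2 _ hV
  refine bassNum_eq_zero_of_lt_depth _ _ n ?_
  rwa [← depth_stalk_eq_localized G hG hV ⟨z, hz⟩]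

/-- The local ring at a point as a localisation. -/
noncomputable def stalkLocEquiv {V : X.Opens} (hV : IsAffineOpen V) (z : V) :
    Localization.AtPrime (hV.primeIdealOf z).asIdeal ≃+* X.presheaf.stalk z.1 :=
  letI := TopCat.Presheaf.algebra_section_stalk X.presheaf z
  haveI := hV.isLocalization_stalk z
  (IsLocalization.algEquiv (hV.primeIdealOf z).asIdeal.primeCompl _ _).toRingEquiv

theorem bassZero_of_dim_lt {n : ℕ} {G : X.Modules} {z : X} (hreg : IsRegularLocalRing (X.presheaf.stalk z))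
    (h : ringKrullDim (X.presheaf.stalk z) < (n : WithBot ℕ∞)) : BassZero n G z := by
  intro V hV hz
  haveI : IsNoetherianRing Γ(X, V) := IsLocallyNoetherian.component_noetherian ⟨V, hV⟩
  haveI : IsRegularLocalRing (Localization.AtPrime (hV.primeIdealOf ⟨z, hz⟩).asIdeal) :=
    haveI := hreg; IsRegularLocalRing.of_ringEquiv (stalkLocEquiv hV ⟨z, hz⟩).symm
  refine bassNum_eq_zero_of_dim_lt _ _ n ?_
  rwa [ringKrullDim_eq_of_ringEquiv (stalkLocEquiv hV ⟨z, hz⟩)]

theorem bassZero_structureModule_of_ne {n : ℕ} {z : X} (hreg : IsRegularLocalRing (X.presheaf.stalk z))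
    (h : ringKrullDim (X.presheaf.stalk z) ≠ (n : WithBot ℕ∞)) : BassZero n (Coh.structureModule X) z := by
  rcases lt_or_gt_of_ne h with h | h
  · exact bassZero_of_dim_lt hreg h
  intro V hV hz
  haveI : IsNoetherianRing Γ(X, V) := IsLocallyNoetherian.component_noetherian ⟨V, hV⟩
  let P := (hV.primeIdealOf ⟨z, hz⟩).asIdeal
  haveI := hreg
  haveI : IsRegularLocalRing (Localization.AtPrime P) :=
    IsRegularLocalRing.of_ringEquiv (stalkLocEquiv hV ⟨z, hz⟩).symm
  haveI : Module.Finite Γ(X, V) Γ(Coh.structureModule X, V) := (Module.Finite.self Γ(X, V) :)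
  refine bassNum_eq_zero_of_lt_depth P Γ(Coh.structureModule X, V) n ?_
  let e : LocalizedModule P.primeCompl Γ(X, V) ≃ₗ[Localization.AtPrime P] Localization.AtPrime P :=
    LinearEquiv.extendScalarsOfIsLocalization P.primeCompl (Localization.AtPrime P)
      (IsLocalizedModule.iso P.primeCompl (Algebra.linearMap Γ(X, V) (Localization.AtPrime P)))
  have hd : (n : ℕ∞) < LocCoh.depth (Localization.AtPrime P) (LocalizedModule P.primeCompl Γ(X, V)) := by
    rw [H4Depth.depth_congr e]
    have h' := h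
    rw [← ringKrullDim_eq_of_ringEquiv (stalkLocEquiv hV ⟨z, hz⟩),
      ← H4Depth.depth_self_eq_ringKrullDim_of_regular (Localization.AtPrime P)] at h'
    exact_mod_cast h'
  exact hd

theorem isZero_of_subsingleton_affine {E : X.Modules}
    (h : ∀ V : X.Opens, IsAffineOpen V → Subsingleton Γ(E, V)) : IsZero E := by
  refine H10Coh.isZero_of_sections E fun U => subsingleton_of_forall_eq 0 fun s => ?_
  refine H29Ref.sec_ext E fun x hx => ?_
  obtain ⟨V, hV, hxV, hVU⟩ := exists_isAffineOpen_mem_and_subset (X := X) (x := x) (U := U) hx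
  haveI := h V hV
  rw [← E.presheaf.germ_res_apply (homOfLE hVU) x hxV s, ← E.presheaf.germ_res_apply (homOfLE hVU) x hxV 0]
  exact congrArg _ (Subsingleton.elim _ _)

variable [HasInjectiveResolutions X.Modules] (U : X.Opens) (F G : X.Modules)

/-- Vanishing of the Ext sheaves with supports. -/
theorem isZero_rightDerived_phi (hF : Coh.IsCoh F) (hG : Coh.IsQCoh G) (n : ℕ)
    (h : ∀ z ∈ CohB1.support F, z ∉ (U : Set X) → BassZero n G z) :
    IsZero (((phi U F).rightDerived n).obj G) := by
  refine isZero_of_subsingleton_affine fun V hV => ?_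
  haveI : IsNoetherianRing Γ(X, V) := IsLocallyNoetherian.component_noetherian ⟨V, hV⟩
  haveI : Module.Finite Γ(X, V) Γ(F, V) := @H10Coh.finite_sections _ F hF.1 hF.2 _ hV
  obtain ⟨φ, hφ⟩ := exists_injective_rightDerived U hV F hF (⊥ : Submodule Γ(X, V) Γ(F, V)) bot_le n G hG
    fun k => by
      refine subsingleton_ext_of_support Γ(G, V) n _ fun q hq => ?_
      obtain ⟨z, rfl⟩ := exists_point_of_prime hV q
      obtain ⟨h1, h2⟩ := support_Lq _ _ hq
      refine h z.1 ((primeIdealOf_mem_support_iff F hF.1 hV z).1 ?_) ((zIdeal_le_iff U hV z).1 h2) V hV z.2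
      exact Module.support_subset_of_surjective (Submodule.mkQ _) (Submodule.mkQ_surjective _) h1
  haveI : Subsingleton (Ext (ModuleCat.of Γ(X, V) (⊥ : Submodule Γ(X, V) Γ(F, V))) ((gamma V).obj G) n) :=
    H4Depth.subsingleton_ext_of_annihilator_sup_eq_top (by
      rw [Module.annihilator_eq_top_iff.2 inferInstance, top_sup_eq]) n
  exact hφ.subsingleton

/-- Coherence of the Ext sheaves with supports. -/
theorem isCoh_rightDerived_phi (hF : Coh.IsCoh F) (hG : Coh.IsCoh G) (n : ℕ)
    (h : ∀ z ∈ closure (CohB1.support F ∩ (U : Set X)), z ∉ (U : Set X) → BassZero n G z) :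
    Coh.IsCoh (((phi U F).rightDerived n).obj G) := by
  refine (H10Coh.isCoh_iff_finite_sections _).2 ⟨isQCoh_rightDerived_phi U F hF n G hG.1, fun V hV => ?_⟩
  haveI : IsNoetherianRing Γ(X, V) := IsLocallyNoetherian.component_noetherian ⟨V, hV⟩
  haveI : Module.Finite Γ(X, V) Γ(F, V) := @H10Coh.finite_sections _ F hF.1 hF.2 _ hV
  haveI : Module.Finite Γ(X, V) Γ(G, V) := @H10Coh.finite_sections _ G hG.1 hG.2 _ hV
  obtain ⟨φ, hφ⟩ := exists_injective_rightDerived U hV F hF (powTorsion (zIdeal U hV) Γ(F, V)) le_rfl n G hG.1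
    fun k => by
      refine subsingleton_ext_of_support Γ(G, V) n _ fun q hq => ?_
      obtain ⟨z, rfl⟩ := exists_point_of_prime hV q
      obtain ⟨h1, h2⟩ := support_Lq _ _ hq
      refine h z.1 (mem_closure_iff.2 fun W hW hzW => ?_) ((zIdeal_le_iff U hV z).1 h2) V hV z.2
      obtain ⟨a, haW, hza⟩ := hV.exists_basicOpen_le (V := (⟨W, hW⟩ : X.Opens)) ⟨z.1, hzW⟩ z.2
      obtain ⟨p, hp, hap, hIp⟩ := exists_of_mem_support_quot_powTorsion _ h1
        (a := a) fun hm => (mem_primeIdealOf_iff hV z.2 a).1 hm hza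
      obtain ⟨y, rfl⟩ := exists_point_of_prime hV p
      refine ⟨y.1, haW ?_, (primeIdealOf_mem_support_iff F hF.1 hV y).1 hp, ?_⟩
      · by_contra hy
        exact hap ((mem_primeIdealOf_iff hV y.2 a).2 hy)
      · by_contra hy
        exact hIp ((zIdeal_le_iff U hV y).2 hy)
  haveI : Module.Finite Γ(X, V) (ModuleCat.of Γ(X, V) (powTorsion (zIdeal U hV) Γ(F, V))) :=
    inferInstanceAs (Module.Finite Γ(X, V) (powTorsion (zIdeal U hV) Γ(F, V)))
  haveI : Module.Finite Γ(X, V) ((gamma V).obj G) := inferInstanceAs (Module.Finite Γ(X, V) Γ(G, V))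
  exact Module.Finite.of_injective φ hφ

/-- A module supported off `U` has coherent Ext sheaves with supports. -/
theorem isCoh_rightDerived_phi_of_support (hF : Coh.IsCoh F) (hG : Coh.IsCoh G) (n : ℕ)
    (h : ∀ x ∈ CohB1.support F, x ∉ (U : Set X)) : Coh.IsCoh (((phi U F).rightDerived n).obj G) := by
  refine isCoh_rightDerived_phi U F G hF hG n fun z hz => ?_
  rw [Set.eq_empty_iff_forall_notMem.2 (fun x (hx : x ∈ CohB1.support F ∩ (U : Set X)) => h x hx.1 hx.2),
    closure_empty] at hz
  exact hz.elim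

end Groth.Agent.H10Inj.SheafExt
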