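import Groth.Agent.H10Inj.SheafExt.GammaZ
import Groth.Agent.H10Inj.SheafExt.RestrictHom
import Groth.Agent.H10Inj.SheafExt.SuppExt
import Groth.Agent.H10Inj.SheafExt.Depth
import Groth.Agent.H10Coh.Local

/-!
# Ext sheaves with supports on affine opens
-/

set_option autoImplicit false
set_option backward.isDefEq.respectTransparency false
set_option linter.style.haveILetI false
set_option linter.unusedSectionVars false

universe u

open CategoryTheory CategoryTheory.Limits AlgebraicGeometry TopologicalSpace Opposite Abelian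

namespace Groth.Agent.H10Inj.SheafExt

open Groth.Agent.H29Ref Groth.Agent.H06Mod

variable {X : Scheme.{u}} (U : X.Opens) {V : X.Opens} (hV : IsAffineOpen V)

/-- The ideal of the trace of the complement of `U` on an affine open. -/
noncomputable def zIdeal : Ideal Γ(X, V) :=
  PrimeSpectrum.vanishingIdeal (hV.fromSpec ⁻¹' (U : Set X)ᶜ)

theorem zIdeal_le_iff (z : V) : zIdeal U hV ≤ (hV.primeIdealOf z).asIdeal ↔ z.1 ∉ (U : Set X) := by
  have hC : IsClosed (hV.fromSpec ⁻¹' (U : Set X)ᶜ : Set (PrimeSpectrum Γ(X, V))) :=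
    U.isOpen.isClosed_compl.preimage hV.fromSpec.continuous
  have h : hV.primeIdealOf z ∈ PrimeSpectrum.zeroLocus (zIdeal U hV : Set Γ(X, V)) ↔ z.1 ∉ (U : Set X) := by
    rw [zIdeal, PrimeSpectrum.zeroLocus_vanishingIdeal_eq_closure, hC.closure_eq, Set.mem_preimage,
      hV.fromSpec_primeIdealOf z]
    rfl
  exact h

theorem exists_mem_zIdeal {y : X} (hyV : y ∈ V) (hyU : y ∈ U) :
    ∃ a ∈ zIdeal U hV, a ∉ (hV.primeIdealOf ⟨y, hyV⟩).asIdeal := by
  by_contra h
  push Not at h
  exact (zIdeal_le_iff U hV ⟨y, hyV⟩).1 h hyU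

theorem isUnit_germ_of_notMem {y : X} (hyV : y ∈ V) {a : Γ(X, V)}
    (ha : a ∉ (hV.primeIdealOf ⟨y, hyV⟩).asIdeal) : IsUnit (X.presheaf.germ V y hyV a) := by
  letI := TopCat.Presheaf.algebra_section_stalk X.presheaf (⟨y, hyV⟩ : V)
  haveI := hV.isLocalization_stalk ⟨y, hyV⟩
  exact IsLocalization.map_units (X.presheaf.stalk y) (⟨a, ha⟩ : (hV.primeIdealOf ⟨y, hyV⟩).asIdeal.primeCompl)

theorem mem_primeIdealOf_iff {y : X} (hyV : y ∈ V) (a : Γ(X, V)) :
    a ∈ (hV.primeIdealOf ⟨y, hyV⟩).asIdeal ↔ y ∉ X.basicOpen a := by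
  letI := TopCat.Presheaf.algebra_section_stalk X.presheaf (⟨y, hyV⟩ : V)
  haveI := hV.isLocalization_stalk ⟨y, hyV⟩
  rw [Scheme.mem_basicOpen _ a y hyV,
    ← IsLocalization.AtPrime.to_map_mem_maximal_iff (X.presheaf.stalk y) (hV.primeIdealOf ⟨y, hyV⟩).asIdeal a]
  exact IsLocalRing.mem_maximalIdeal _

theorem res_eq_zero_iff_mem_powTorsion [IsLocallyNoetherian X] (H : X.Modules) (hH : Coh.IsQCoh H)
    (s : Γ(H, V)) : H.presheaf.map (homOfLE (U.ι.image_preimage_le V)).op s = 0 ↔
      s ∈ powTorsion (zIdeal U hV) Γ(H, V) := by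
  haveI : IsNoetherianRing Γ(X, V) := IsLocallyNoetherian.component_noetherian ⟨V, hV⟩
  haveI : H.IsQuasicoherent := hH
  have himg : ∀ y : X, y ∈ U.ι ''ᵁ (U.ι ⁻¹ᵁ V) ↔ y ∈ U ∧ y ∈ V := fun y => by
    rw [Scheme.Hom.image_preimage_eq_opensRange_inf, Scheme.Opens.opensRange_ι]; exact Iff.rfl
  constructor
  · intro hs
    let J := LinearMap.ker (LinearMap.toSpanSingleton Γ(X, V) Γ(H, V) s)
    have hle : zIdeal U hV ≤ Ideal.radical J := fun a ha => by
      have hD : X.basicOpen a ≤ U.ι ''ᵁ (U.ι ⁻¹ᵁ V) := fun y hy => by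
        refine (himg y).2 ⟨?_, X.basicOpen_le a hy⟩
        by_contra hyU
        exact (mem_primeIdealOf_iff hV (X.basicOpen_le a hy) a).1 ((zIdeal_le_iff U hV ⟨y, _⟩).2 hyU ha) hy
      obtain ⟨n, hn⟩ := H10Coh.exists_pow_smul_eq_zero_of_isCompact H hV.isCompact a s (by
        have := congrArg (H.presheaf.map (homOfLE hD).op) hs
        rw [map_zero, ← ConcreteCategory.comp_apply, ← Functor.map_comp] at this
        exact this)
      exact ⟨n, hn⟩
    obtain ⟨k, hk⟩ := Ideal.exists_pow_le_of_le_radical_of_fg hle (IsNoetherian.noetherian _)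
    exact ⟨k, fun a ha => hk ha⟩
  · rintro ⟨k, hk⟩
    refine sec_ext H fun y hy => ?_
    obtain ⟨hyU, hyV⟩ := (himg y).1 hy
    obtain ⟨a, ha, haq⟩ := exists_mem_zIdeal U hV hyV hyU
    rw [map_zero]
    refine (H.presheaf.germ_res_apply _ y hy s).trans ?_
    have h := congrArg (H.presheaf.germ V y hyV) (hk (a ^ k) (Ideal.pow_mem_pow ha k))
    rw [Mero.germ_smul, map_zero, map_pow] at h
    exact ((isUnit_germ_of_notMem hV hyV haq).pow k).smul_eq_zero.1 h

theorem mem_powTorsion_of_linearEquiv {R : Type u} [CommRing R] (I : Ideal R) {M N : Type u} [AddCommGroup M]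
    [Module R M] [AddCommGroup N] [Module R N] (e : M ≃ₗ[R] N) (m : M) :
    e m ∈ powTorsion I N ↔ m ∈ powTorsion I M :=
  exists_congr fun _ => forall₂_congr fun a _ => by rw [← map_smul, LinearEquiv.map_eq_zero_iff]

variable (F : X.Modules)

/-- `Γ_Z 𝓗om(F, -)`. -/
noncomputable abbrev phi : X.Modules ⥤ X.Modules := homFunctor F ⋙ DCoh.gammaZ U.ι

variable [IsLocallyNoetherian X] (hF : Coh.IsCoh F)

include hF in
theorem isQCoh_phi (N : X.Modules) (hN : Coh.IsQCoh N) : Coh.IsQCoh ((phi U F).obj N) :=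
  isQCoh_gammaZ U _ (isQCoh_homSh F N (H10Coh.isFP_of_isCoh F hF) hN)

/-- Sections of `Γ_Z 𝓗om(F, N)` as linear maps. -/
noncomputable def phiMap (N : X.Modules) :
    (gamma V).obj ((phi U F).obj N) →ₗ[Γ(X, V)] (Γ(F, V) →ₗ[Γ(X, V)] Γ(N, V)) :=
  (toLinₗ F N V).comp ((gamma V).map (gι U (RefHull.homSh F N))).hom

include hF hV in
theorem phiMap_injective (N : X.Modules) : Function.Injective (phiMap U F (V := V) N) :=
  (bijective_toLinₗ F N hF.1 hV).1.comp (injective_gι_app U _ V)

include hF in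
theorem range_phiMap (N : X.Modules) (hN : Coh.IsQCoh N) :
    LinearMap.range (phiMap U F (V := V) N) = powTorsion (zIdeal U hV) (Γ(F, V) →ₗ[Γ(X, V)] Γ(N, V)) := by
  let e := LinearEquiv.ofBijective (toLinₗ F N V) (bijective_toLinₗ F N hF.1 hV)
  have hq := isQCoh_homSh F N (H10Coh.isFP_of_isCoh F hF) hN
  ext f
  obtain ⟨s, rfl⟩ := e.surjective f
  rw [mem_powTorsion_of_linearEquiv, ← res_eq_zero_iff_mem_powTorsion U hV _ hq, ← mem_range_gι_app]
  exact exists_congr fun t => e.injective.eq_iff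

theorem phiMap_natural {N N' : X.Modules} (g : N ⟶ N') (x : (gamma V).obj ((phi U F).obj N)) :
    phiMap U F (V := V) N' (((gamma V).map ((phi U F).map g)).hom x) =
      ((gamma V).map g).hom.comp (phiMap U F (V := V) N x) := by
  refine LinearMap.ext fun m => ?_
  have h : (gι U (RefHull.homSh F N')).app V (((phi U F).map g).app V x) =
      ((homFunctor F).map g).app V ((gι U (RefHull.homSh F N)).app V x) :=
    congr($(congrArg (fun φ => Scheme.Modules.Hom.app φ V) (gι_natural U ((homFunctor F).map g))) x)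
  exact (congrArg (fun s => toLin s m) h).trans (toLin_homFunctor_map F g V _ m)

variable [HasInjectiveResolutions X.Modules]

attribute [local instance 10000] H10Coh.hasSheafifyAb H10Coh.hasWeakSheafifyAb H10Coh.hasExtAb H10Coh.enoughInjAb

include hF in
theorem isQCoh_rightDerived_phi (i : ℕ) (N : X.Modules) (hN : Coh.IsQCoh N) :
    Coh.IsQCoh (((phi U F).rightDerived i).obj N) := by
  refine rightDerived_mem (phi U F) (fun N => Coh.IsQCoh N) (fun N => Coh.IsQCoh N)
    (fun e h => @H10Coh.isQuasicoherent_of_iso _ _ _ e h) (fun N hN => ?_)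
    (fun N hN => isQCoh_phi U F hF N hN) i N hN
  obtain ⟨S, hS, he, hI, h2, h3⟩ := exists_shortExact N hN
  haveI : ((phi U F).obj S.X₂).IsQuasicoherent := isQCoh_phi U F hF _ h2
  haveI : ((phi U F).obj S.X₃).IsQuasicoherent := isQCoh_phi U F hF _ h3
  exact ⟨S, hS, he, hI, h2, h3, H10Coh.isQuasicoherent_cokernel _⟩

include hF in
/-- Sections of Ext sheaves with supports inject into Ext out of a torsion submodule, provided the Ext
modules out of the complementary quotients vanish. -/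
theorem exists_injective_rightDerived (K : Submodule Γ(X, V) Γ(F, V))
    (hK : K ≤ powTorsion (zIdeal U hV) Γ(F, V)) : ∀ (n : ℕ) (G : X.Modules), Coh.IsQCoh G →
    (∀ k, Subsingleton (Ext (ModuleCat.of Γ(X, V) (Lq (zIdeal U hV) K k)) ((gamma V).obj G) n)) →
    ∃ φ : (gamma V).obj (((phi U F).rightDerived n).obj G) →ₗ[Γ(X, V)]
        Ext (ModuleCat.of Γ(X, V) K) ((gamma V).obj G) n, Function.Injective φ := by
  haveI : IsNoetherianRing Γ(X, V) := IsLocallyNoetherian.component_noetherian ⟨V, hV⟩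
  haveI : Module.Finite Γ(X, V) Γ(F, V) := @H10Coh.finite_sections _ F hF.1 hF.2 _ hV
  let I := zIdeal U hV
  intro n
  induction n with
  | zero =>
    intro G hG h
    let e := ((gamma V).mapIso ((phi U F).rightDerivedZeroIsoSelf.app G)).toLinearEquiv
    let r : (Γ(F, V) →ₗ[Γ(X, V)] Γ(G, V)) →ₗ[Γ(X, V)] (ModuleCat.of Γ(X, V) K ⟶ (gamma V).obj G) :=
      (ModuleCat.homLinearEquiv (S := Γ(X, V)) (M := ModuleCat.of Γ(X, V) K)
        (N := (gamma V).obj G)).symm.toLinearMap.comp (LinearMap.lcomp Γ(X, V) Γ(G, V) K.subtype)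
    refine ⟨((Ext.linearEquiv₀ (R := Γ(X, V))).symm.toLinearMap.comp (r.comp (phiMap U F G))).comp e.toLinearMap,
      ((Ext.linearEquiv₀ (R := Γ(X, V))).symm.injective.comp ((injective_iff_map_eq_zero _).2 fun x hx => ?_)).comp
        e.injective⟩
    refine phiMap_injective U hV F hF G (Eq.trans ?_ (map_zero _).symm)
    have hx' : (phiMap U F G x).comp K.subtype = 0 :=
      (ModuleCat.homLinearEquiv (S := Γ(X, V))).symm.injective (hx.trans (map_zero _).symm)
    obtain ⟨k, g, hg⟩ := exists_factor_Lq I K _ (range_phiMap U hV F hF G hG ▸ LinearMap.mem_range_self _ x)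
      fun y hy => LinearMap.congr_fun hx' ⟨y, hy⟩
    haveI := h k
    haveI hs : Subsingleton (ModuleCat.of Γ(X, V) (Lq I K k) ⟶ (gamma V).obj G) :=
      (Ext.mk₀_bijective _ _).1.subsingleton
    rw [← hg, show g = 0 from congrArg ModuleCat.Hom.hom
      (@Subsingleton.elim _ hs (ModuleCat.ofHom g) 0)]
    exact LinearMap.zero_comp _
  | succ n ih =>
    intro G hG h
    haveI : G.IsQuasicoherent := hG
    obtain ⟨E, g, hg, hE, hEq⟩ := exists_mono_injective G
    haveI := hg
    haveI := hEq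
    haveI := hE
    haveI : (cokernel g).IsQuasicoherent := H10Coh.isQuasicoherent_cokernel g
    let S := ShortComplex.mk g (cokernel.π g) (cokernel.condition g)
    haveI : S.X₂.IsQuasicoherent := hEq
    haveI : S.X₃.IsQuasicoherent := ‹(cokernel g).IsQuasicoherent›
    have hS : S.ShortExact := ShortComplex.ShortExact.mk' (ShortComplex.exact_cokernel g) hg inferInstance
    haveI : Injective S.X₂ := hE
    have hΨ := exact_gamma hS hV
    haveI hinj : Module.Injective Γ(X, V) Γ(E, V) := injective_sections E hV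
    haveI : Injective (S.map (gamma V)).X₂ :=
      Module.injective_object_of_injective_module Γ(X, V) Γ(E, V)
    cases n with
    | zero =>
      obtain ⟨e⟩ := H10Coh.nonempty_rightDerived_one (phi U F) hS (isAcyclic_of_injective (phi U F) S.X₂)
      haveI : ((phi U F).obj S.X₂).IsQuasicoherent := isQCoh_phi U F hF _ hEq
      haveI : ((phi U F).obj S.X₃).IsQuasicoherent := isQCoh_phi U F hF _ ‹S.X₃.IsQuasicoherent›
      obtain ⟨ec⟩ := nonempty_gamma_cokernel ((phi U F).map S.g) hV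
      obtain ⟨e'⟩ := nonempty_ext_one (ModuleCat.of Γ(X, V) K) hΨ
      let ψ := ((gamma V).mapIso e ≪≫ ec ≪≫ ModuleCat.cokernelIsoRangeQuotient _).toLinearEquiv
      let rc := Linear.rightComp Γ(X, V) (ModuleCat.of Γ(X, V) K) ((gamma V).map S.g)
      let θ : (gamma V).obj ((phi U F).obj S.X₃) →ₗ[Γ(X, V)]
          (ModuleCat.of Γ(X, V) K ⟶ (gamma V).obj S.X₃) ⧸ LinearMap.range rc :=
        (Submodule.mkQ _).comp (((ModuleCat.homLinearEquiv (S := Γ(X, V)) (M := ModuleCat.of Γ(X, V) K)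
          (N := (gamma V).obj S.X₃)).symm.toLinearMap.comp
            (LinearMap.lcomp Γ(X, V) Γ(S.X₃, V) K.subtype)).comp (phiMap U F S.X₃))
      have hle : LinearMap.range ((gamma V).map ((phi U F).map S.g)).hom ≤ LinearMap.ker θ := by
        rintro _ ⟨x, rfl⟩
        refine (Submodule.Quotient.mk_eq_zero _).2 ⟨ModuleCat.ofHom ((phiMap U F S.X₂ x).comp K.subtype), ?_⟩
        refine ModuleCat.hom_ext ?_
        show ((gamma V).map S.g).hom.comp ((phiMap U F S.X₂ x).comp K.subtype) = _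
        rw [← LinearMap.comp_assoc, ← phiMap_natural]
        rfl
      have hge : LinearMap.ker θ ≤ LinearMap.range ((gamma V).map ((phi U F).map S.g)).hom := by
        intro x hx
        obtain ⟨gK, hgK⟩ := (Submodule.Quotient.mk_eq_zero _).1 hx
        have hgK' : ((gamma V).map S.g).hom.comp gK.hom = (phiMap U F S.X₃ x).comp K.subtype :=
          congrArg ModuleCat.Hom.hom hgK
        obtain ⟨f', hf', hf'K⟩ := exists_extend I K hK (E := Γ(E, V)) gK.hom
        let pg : Γ(E, V) →ₗ[Γ(X, V)] Γ(S.X₃, V) := ((gamma V).map S.g).hom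
        have hT : phiMap U F S.X₃ x - pg.comp f' ∈
            powTorsion I (Γ(F, V) →ₗ[Γ(X, V)] Γ(S.X₃, V)) := by
          refine sub_mem (range_phiMap U hV F hF _ ‹S.X₃.IsQuasicoherent› ▸ LinearMap.mem_range_self _ x) ?_
          obtain ⟨k, hk⟩ := hf'
          exact ⟨k, fun a ha => by rw [← LinearMap.comp_smul, hk a ha, LinearMap.comp_zero]⟩
        obtain ⟨k, w, hw⟩ := exists_factor_Lq I K _ hT fun y hy => by
          let gK' : K →ₗ[Γ(X, V)] Γ(E, V) := gK.hom
          have h1 : phiMap U F S.X₃ x y = pg (gK' ⟨y, hy⟩) :=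
            (LinearMap.congr_fun hgK' ⟨y, hy⟩).symm
          have h2 : f' y = gK' ⟨y, hy⟩ := LinearMap.congr_fun hf'K ⟨y, hy⟩
          show phiMap U F S.X₃ x y - pg (f' y) = 0
          rw [h1, h2, sub_self]
        haveI := h k
        obtain ⟨x₂, hx₂⟩ := Ext.covariant_sequence_exact₃ (ModuleCat.of Γ(X, V) (Lq I K k)) hΨ
          (Ext.mk₀ (ModuleCat.ofHom w)) (zero_add 1) (@Subsingleton.elim _ (h k) _ _)
        obtain ⟨l, rfl⟩ := (Ext.mk₀_bijective _ _).2 x₂
        rw [Ext.mk₀_comp_mk₀] at hx₂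
        let l' : Lq I K k →ₗ[Γ(X, V)] Γ(E, V) := l.hom
        have hl : pg.comp l' = w :=
          congrArg ModuleCat.Hom.hom ((Ext.mk₀_bijective _ _).1 hx₂)
        have hmem : f' + l'.comp (Submodule.mkQ _) ∈ LinearMap.range (phiMap U F (V := V) S.X₂) := by
          rw [range_phiMap U hV F hF _ hEq]
          exact add_mem hf' (comp_mkQ_mem I K _)
        obtain ⟨y, hy⟩ := hmem
        refine ⟨y, phiMap_injective U hV F hF S.X₃ ?_⟩
        refine (phiMap_natural U F S.g y).trans ?_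
        rw [hy]
        show pg.comp (f' + l'.comp (Submodule.mkQ _)) = _
        rw [LinearMap.comp_add, ← LinearMap.comp_assoc, hl, hw, add_sub_cancel]
      refine ⟨(e'.symm.toLinearMap.comp (Submodule.liftQ _ θ hle)).comp ψ.toLinearMap,
        (e'.symm.injective.comp ?_).comp ψ.injective⟩
      exact LinearMap.ker_eq_bot.1 (Submodule.ker_liftQ_eq_bot _ θ hle hge)
    | succ n =>
      obtain ⟨e⟩ := H10Coh.nonempty_rightDerived_shift (phi U F) hS (isAcyclic_of_injective (phi U F) S.X₂) n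
      obtain ⟨e'⟩ := nonempty_ext_shift (ModuleCat.of Γ(X, V) K) hΨ n
      obtain ⟨φ, hφ⟩ := ih S.X₃ ‹S.X₃.IsQuasicoherent› fun k => by
        obtain ⟨e''⟩ := nonempty_ext_shift (ModuleCat.of Γ(X, V) (Lq I K k)) hΨ n
        exact @Equiv.subsingleton _ _ e''.symm.toEquiv (h k)
      exact ⟨(e'.symm.toLinearMap.comp φ).comp ((gamma V).mapIso e).toLinearEquiv.toLinearMap,
        (e'.symm.injective.comp hφ).comp ((gamma V).mapIso e).toLinearEquiv.injective⟩

end Groth.Agent.H10Inj.SheafExt
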